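import Cfsg.Agent.D4Spec.Defs

/-! Kernel checks for the triality group over two. -/

set_option autoImplicit false
set_option maxRecDepth 100000
set_option Elab.async false

namespace CfsgLib.D4Spec

open CfsgLib.Coset

theorem pts_ok : allBelow 12 2457 ptOK = true := by decide +kernel
theorem mov_ok : allBelow 12 2457 movOK = true := by decide +kernel
theorem tw_ok : twOK = true := by decide +kernel
theorem perm_ok : checkPerm id 2457 8 12 3 Tb = true := by decide +kernel
theorem levK : levOK SK = true := by decide +kernel
theorem reps_ok : repsOK = true := by decide +kernel
theorem wit_ok : witOK = true := by decide +kernel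

end CfsgLib.D4Spec
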