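import Cfsg.Agent.D4Spec.Defs
import Cfsg.Agent.D4Spec.ChkA

/-! Kernel checks for the triality group over two. -/

set_option autoImplicit false
set_option maxRecDepth 100000
set_option Elab.async false

namespace CfsgLib.D4Spec

open CfsgLib.Coset

theorem levB : levOK DB.S = true := by decide +kernel
theorem baseB : DB.baseOK = true := by decide +kernel
theorem liftB : allBelow 12 4096 DB.okLift = true := by decide +kernel
theorem primeB : allBelow 12 4096 DB.okPrime = true := by decide +kernel
theorem cntB : Nat.beq (cnt 12 0 DB.hit) 648 = true := by decide +kernel

end CfsgLib.D4Spec
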