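import Cfsg.Agent.D4Spec.Defs
import Cfsg.Agent.D4Spec.ChkE

/-! Kernel checks for the triality group over two. -/

set_option autoImplicit false
set_option maxRecDepth 100000
set_option Elab.async false

namespace CfsgLib.D4Spec

open CfsgLib.Coset

theorem liftE2 : allBlock 14 2 DE.okLift = true := by decide +kernel
theorem liftE3 : allBlock 14 3 DE.okLift = true := by decide +kernel

end CfsgLib.D4Spec
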