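import Cfsg.Agent.D4Spec.Defs
import Cfsg.Agent.D4Spec.ChkE5

/-! Kernel checks for the triality group over two. -/

set_option autoImplicit false
set_option maxRecDepth 100000
set_option Elab.async false

namespace CfsgLib.D4Spec

open CfsgLib.Coset

theorem cntE0 : Nat.beq (cnt 14 0 DE.hit) 168 = true := by decide +kernel
theorem cntE1 : Nat.beq (cnt 14 1 DE.hit) 504 = true := by decide +kernel
theorem cntE2 : Nat.beq (cnt 14 2 DE.hit) 336 = true := by decide +kernel
theorem cntE3 : Nat.beq (cnt 14 3 DE.hit) 168 = true := by decide +kernel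

end CfsgLib.D4Spec
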