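import Cfsg.Agent.D4Spec.Defs
import Cfsg.Agent.D4Spec.ChkF

/-! Kernel checks for the triality group over two. -/

set_option autoImplicit false
set_option maxRecDepth 100000
set_option Elab.async false

namespace CfsgLib.D4Spec

open CfsgLib.Coset

theorem levG : levOK DG.S = true := by decide +kernel
theorem baseG : DG.baseOK = true := by decide +kernel
theorem liftG : allBelow 12 4096 DG.okLift = true := by decide +kernel
theorem primeG : allBelow 12 4096 DG.okPrime = true := by decide +kernel
theorem cntG : Nat.beq (cnt 12 0 DG.hit) 13 = true := by decide +kernel

end CfsgLib.D4Spec
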