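import Cfsg.Agent.D4Spec.Rho
import Cfsg.Agent.D4Spec.DataPts
import Cfsg.Agent.D4Spec.DataCent
import Cfsg.Agent.D4Spec.DataSyl

/-! Boolean tests for the elements of the triality group over two acting on the natural module. -/

set_option autoImplicit false

namespace CfsgLib.D4Spec

open CfsgLib.Coset

section Kernel

/-- The root elements of a generator. -/
noncomputable def genW (l : Nat) : List (Nat × Nat) := genList.getD l []

/-- A scalar applied to a coded vector. -/
noncomputable def scal (c v : Nat) : Nat :=
  Nat.rec (motive := fun _ => Nat) 0
    (fun k ih => Nat.xor ih (place (mulc c (coord v k)) k)) 8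

/-- The first non-zero coordinate of a coded vector. -/
noncomputable def lead (v : Nat) : Nat :=
  List.rec (motive := fun _ => Nat) 0
    (fun k _ ih => cond (Nat.beq (coord v k) 0) ih (coord v k)) (List.range 8)

/-- The points are sorted, normalised and of bounded size. -/
noncomputable def ptOK (i : Nat) : Bool :=
  cond (Nat.beq (lead (PV i)) 1) (cond (Nat.ble (Nat.add (PV i) 1) 16777216)
    (cond (Nat.ble (Nat.add i 2) 2457) (Nat.ble (Nat.add (PV i) 1) (PV (Nat.add i 1))) true) false)
    false

/-- A generator maps a point to the point given by the table. -/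
noncomputable def movOK (i : Nat) : Bool :=
  allBelow 3 8 fun l => force (appW (genW l) (PV i)) fun w =>
    cond (Nat.ble (Nat.add (tget Tb i l) 1) 2457)
      (cond (Nat.beq (lead w) 0) false (Nat.beq (scal (lead w) (PV (tget Tb i l))) w)) false

/-- A word in the generators applied to a coded vector. -/
noncomputable def appL (w : List Nat) (v : Nat) : Nat :=
  List.rec (motive := fun _ => Nat) v (fun l _ ih => force ih fun u => appW (genW l) u) w

/-- The root elements of a twisted generator. -/
noncomputable def twW (neg a : Nat) : List (Nat × Nat) :=
  cond (Nat.beq neg 0) [(18, a), (13, mulc a a), (12, mulc (mulc a a) (mulc a a))]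
    [(5, a), (10, mulc a a), (11, mulc (mulc a a) (mulc a a))]

/-- A twisted generator as a word in the eight generators. -/
noncomputable def twL (neg a : Nat) : List Nat :=
  cond (Nat.beq (Nat.land a 1) 1) [cond (Nat.beq neg 0) 4 6] [] ++
    (cond (Nat.beq (Nat.land a 2) 2) [cond (Nat.beq neg 0) 2 3] [] ++
      cond (Nat.beq (Nat.land a 4) 4) [cond (Nat.beq neg 0) 5 7] [])

/-- The twisted generators are products of the eight generators. -/
noncomputable def twOK : Bool :=
  allBelow 3 8 fun a => allBelow 1 2 fun neg => allBelow 3 8 fun c =>
    Nat.beq (appW (twW neg a) (place 1 c)) (appL (twL neg a) (place 1 c))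

/-- The first position of a number in a list. -/
noncomputable def idxL (l : List Nat) (p : Nat) : Nat :=
  List.rec (motive := fun _ => Nat) 0 (fun a _ ih => cond (Nat.beq a p) 0 (Nat.add ih 1)) l

/-- The sifting data with a given last base point. -/
noncomputable def mkS (r : Nat) (P : List Nat) : SiftData where
  k := 3
  m i := cond (Nat.beq i 0) 2457 (cond (Nat.beq i 1) 2048 42)
  B i := cond (Nat.beq i 0) 0 (cond (Nat.beq i 1) 25 r)
  W i j := cond (Nat.beq i 0) (W0 j) (cond (Nat.beq i 1) (W1 j) (W2L.getD j 0))
  I i p := cond (Nat.beq i 0) p (cond (Nat.beq i 1) (I1 p) (idxL P p))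
  iv l := l

/-- The data used for equality tests. -/
noncomputable def SK : SiftData := mkS RK P2K

/-- The test of sifting data. -/
noncomputable def levOK (S : SiftData) : Bool :=
  allBelow 2 3 fun i => S.checkLev Tb 2457 4 12 i

/-- Repetition of a word. -/
noncomputable def rep (m : Nat) (w : List Nat) : List Nat :=
  Nat.rec (motive := fun _ => List Nat) [] (fun _ ih => w ++ ih) m

/-- A packed word. -/
noncomputable def uw (c : Nat) : List Nat := unpack 32 (Nat.land c (Nat.sub (Nat.pow 2 96) 1))

/-- Two words are certified to be equal. -/
noncomputable def eqT (u w : List Nat) : Bool :=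
  cond (checkLetters 4 [u, w]) (SK.eqB Tb u w) false

/-- A word with a power from a short list trivial. -/
noncomputable def easy (w : List Nat) : Bool :=
  cond (eqT (rep 4 w) []) true (cond (eqT (rep 6 w) []) true
    (cond (eqT (rep 14 w) []) true (eqT (rep 9 w) [])))

/-- A word is certified to lift only to elements of orders of the group. -/
noncomputable def liftOK (w : List Nat) (v : Nat) : Bool :=
  cond (Nat.beq (Nat.land (Nat.shiftRight v 96) 65535) 0) (easy w)
    (cond (Nat.ble (Nat.land (Nat.shiftRight v 96) 65535) repsL.length)
      (eqT w (uw v ++ ((repsL.getD (Nat.sub (Nat.land (Nat.shiftRight v 96) 65535) 1) ([], 0)).1 ++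
        invWd id (uw v)))) false)

/-- A word has the given order. -/
noncomputable def ordOK (e : List Nat × Nat) : Bool :=
  cond (checkLetters 4 [e.1]) (cond (eqT (rep e.2 e.1) [])
    (allBelow 5 e.2 fun m => cond (Nat.beq m 0) true (cond (SK.eqB Tb (rep m e.1) []) false true))
    false) false

/-- The sum of the powers of a word kills a vector. -/
noncomputable def normAt (e : List Nat × Nat) (c : Nat) : Bool :=
  Nat.beq (Nat.rec (motive := fun _ => Nat → Nat) (fun _ => 0)
    (fun _ ih u => force u fun u => Nat.xor u (ih (appL e.1 u))) e.2 (place 1 c)) 0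

/-- The representatives are right. -/
noncomputable def repsOK : Bool :=
  allList (fun e => cond (ordOK e) (allBelow 3 8 (normAt e)) false) repsL

/-- The elements with given orders are right. -/
noncomputable def witOK : Bool := allList ordOK witL

/-- Counting on a dyadic interval. -/
noncomputable def cnt (d : Nat) : Nat → (Nat → Bool) → Nat :=
  Nat.rec (fun s f => cond (f s) 1 0)
    (fun _ ih s f => Nat.add (ih (Nat.mul 2 s) f) (ih (Nat.add (Nat.mul 2 s) 1) f)) d

/-- Data for an element of odd prime order. -/
structure CData where
  /-- the prime -/
  p : Nat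
  /-- the last base point -/
  r : Nat
  /-- its images under the deepest transversal -/
  P : List Nat
  /-- the element -/
  t : List Nat
  /-- the exponent giving the last base point -/
  e : Nat
  /-- the number of candidates, as a power of two -/
  d : Nat
  /-- the fixed points, if the first base point is fixed -/
  fixed : List Nat
  /-- the second base point is the image of the first -/
  cyc : Bool
  /-- the certificates -/
  cert : Nat → Nat
  /-- the position of the certificate of a candidate -/
  ix : Nat → Nat

/-- The sifting data. -/
noncomputable def CData.S (D : CData) : SiftData := mkS D.r D.P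

/-- The first two images of a candidate. -/
noncomputable def CData.pr (D : CData) (c : Nat) : Nat × Nat :=
  cond D.cyc (c, followF (tget Tb) c D.t)
    (D.fixed.getD (Nat.shiftRight c 12) 0, Nat.land c 4095)

/-- A candidate is in range. -/
noncomputable def CData.inR (D : CData) (c : Nat) : Bool :=
  cond D.cyc (Nat.ble (Nat.add c 1) 2457)
    (cond (Nat.ble (Nat.add (Nat.land c 4095) 1) 2457)
      (Nat.ble (Nat.add (Nat.shiftRight c 12) 1) D.fixed.length) false)

/-- The images of the base for a candidate. -/
noncomputable def CData.img (D : CData) (c i : Nat) : Nat :=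
  cond (Nat.beq i 0) (D.pr c).1 (cond (Nat.beq i 1) (D.pr c).2
    (followF (tget Tb) (cond D.cyc (D.pr c).1 (D.pr c).2) (rep D.e D.t)))

/-- The word commutes with `t` and has the candidate images. -/
noncomputable def CData.good (D : CData) (c : Nat) (w : List Nat) : Bool :=
  cond (D.S.eqB Tb (w ++ D.t) (D.t ++ w))
    (cond (Nat.beq (followF (tget Tb) 0 w) (D.pr c).1)
      (Nat.beq (followF (tget Tb) 25 w) (D.pr c).2) false) false

/-- There is an element of the centraliser for a candidate. -/
noncomputable def CData.hit (D : CData) (c : Nat) : Bool :=
  cond (D.inR c) (Option.rec false (D.good c) (D.S.sift Tb (D.img c) 3)) false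

/-- The fixed points are complete. -/
noncomputable def CData.fixOK (D : CData) : Bool :=
  allBelow 12 2457 fun z =>
    cond (Nat.beq (followF (tget Tb) z D.t) z) (Nat.ble (Nat.add (idxL D.fixed z) 1) D.fixed.length)
      true

/-- The element fits its base. -/
noncomputable def CData.baseOK (D : CData) : Bool :=
  cond (checkLetters 4 [D.t])
    (cond (eqT (rep D.p D.t) []) (cond (SK.eqB Tb D.t []) false
      (cond D.cyc
        (cond (Nat.beq (followF (tget Tb) 0 D.t) 25)
          (Nat.beq (followF (tget Tb) 0 (rep D.e D.t)) D.r) false)
        (cond (Nat.beq (followF (tget Tb) 0 D.t) 0)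
          (cond (Nat.beq (followF (tget Tb) 25 (rep D.e D.t)) D.r) D.fixOK false) false))) false)
    false

/-- An element of order three. -/
noncomputable def DA : CData := ⟨3, RA, PA, tA, EA, 12, [], true, certA, ixA⟩

/-- An element of order three, central in a Sylow subgroup. -/
noncomputable def DB : CData := ⟨3, RB, PB, tB, EB, 12, [], true, certB, ixB⟩

/-- An element of order seven with a large centraliser. -/
noncomputable def DE : CData := ⟨7, RE, PE, tE, EE, 16, fixE, false, certE, ixE⟩

/-- An element of order seven with a small centraliser. -/
noncomputable def DF : CData := ⟨7, RF, PF, tF, EF, 12, [], true, certF, ixF⟩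

/-- An element of order thirteen. -/
noncomputable def DG : CData := ⟨13, RG, PG, tG, EG, 12, [], true, certG, ixG⟩

/-- The elements of prime order by number. -/
noncomputable def tOf (j : Nat) : List Nat := [tA, tB, tE, tF, tG].getD j []

/-- An element of order `p` is certified to be conjugate to a power of a listed element. -/
noncomputable def primeOK (p : Nat) (w : List Nat) (v : Nat) : Bool :=
  cond (eqT w []) true (cond (SK.eqB Tb (rep p w) [])
    (cond (Nat.beq (Nat.mod (Nat.shiftRight v 212) p) 0) false
      (cond (Nat.beq ([3, 3, 7, 7, 13].getD (Nat.land (Nat.shiftRight v 208) 15) 0) p)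
        (eqT w (uw (Nat.shiftRight v 112) ++
          (rep (Nat.shiftRight v 212) (tOf (Nat.land (Nat.shiftRight v 208) 15)) ++
            invWd id (uw (Nat.shiftRight v 112))))) false)) true)

/-- The certificates of a candidate are right. -/
noncomputable def CData.okLift (D : CData) (c : Nat) : Bool :=
  cond (D.inR c)
    (Option.rec true (fun w => cond (D.good c w) (liftOK w (D.cert (D.ix c))) true)
      (D.S.sift Tb (D.img c) 3)) true

/-- The certificates of conjugacy of a candidate are right. -/
noncomputable def CData.okPrime (D : CData) (c : Nat) : Bool :=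
  cond (D.inR c)
    (Option.rec true (fun w => cond (D.good c w) (primeOK D.p w (D.cert (D.ix c))) true)
      (D.S.sift Tb (D.img c) 3)) true

/-- The word of an element of the Sylow subgroup in its generators. -/
noncomputable def sylFlat (g : List Nat) : List Nat :=
  List.rec (motive := fun _ => List Nat) [] (fun a _ ih => sylGens.getD a [] ++ ih) g

/-- A code for the images of the base. -/
noncomputable def keyOf (w : List Nat) : Nat :=
  Nat.add (Nat.mul 6036849 (followF (tget Tb) (SK.B 0) w))
    (Nat.add (Nat.mul 2457 (followF (tget Tb) (SK.B 1) w)) (followF (tget Tb) (SK.B 2) w))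

/-- An entry of the Sylow subgroup is right. -/
noncomputable def sylOK (i : Nat) : Bool :=
  force (sylW i) fun e =>
    cond (eqT (uw e) (sylFlat (unpack 32 (sylG i))))
      (cond (liftOK (uw e) (sylC i))
        (cond (cond (Nat.ble (Nat.add i 2) 4096)
            (Nat.ble (Nat.add (keyOf (uw e)) 1) (keyOf (uw (sylW (Nat.add i 1))))) true)
          (allBelow 2 4 fun g =>
            cond (Nat.ble (Nat.add (Nat.land (Nat.shiftRight (sylT i) (Nat.mul 16 g)) 65535) 1) 4096)
              (eqT (uw (sylW (Nat.land (Nat.shiftRight (sylT i) (Nat.mul 16 g)) 65535)))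
                (uw e ++ sylGens.getD g [])) false) false) false) false

/-- The generators of the Sylow subgroup and the identity. -/
noncomputable def sylBase : Bool :=
  cond (checkLetters 4 sylGens) (cond (Nat.ble (Nat.add sylOne 1) 4096)
    (eqT (uw (sylW sylOne)) []) false) false

end Kernel

end CfsgLib.D4Spec
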