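import Cfsg.Agent.Coset.Sift
import Mathlib.Algebra.CharP.Two
import Mathlib.FieldTheory.Finite.Basic

/-!
Codes for the elements of the field with eight elements and for vectors of eight coordinates over it.
-/

set_option autoImplicit false

namespace CfsgLib.D4Spec

open CfsgLib.Coset

section Kernel

/-- Multiplication by the generator. -/
noncomputable def mulA (a : Nat) : Nat :=
  cond (Nat.ble 4 a) (Nat.xor (Nat.mul 2 a) 11) (Nat.mul 2 a)

/-- Multiplication of codes. -/
noncomputable def mulc (t a : Nat) : Nat :=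
  Nat.xor (cond (Nat.beq (Nat.land t 1) 1) a 0)
    (Nat.xor (cond (Nat.beq (Nat.land t 2) 2) (mulA a) 0)
      (cond (Nat.beq (Nat.land t 4) 4) (mulA (mulA a)) 0))

/-- A coordinate of a coded vector. -/
noncomputable def coord (v k : Nat) : Nat := Nat.land (Nat.shiftRight v (Nat.mul 3 k)) 7

/-- A code placed at a coordinate. -/
noncomputable def place (a k : Nat) : Nat := Nat.shiftLeft a (Nat.mul 3 k)

end Kernel

variable {K : Type*} [Field K]

/-- The element with a given code. -/
def decF (α : K) (a : Nat) : K :=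
  (if a.testBit 0 then 1 else 0) + (if a.testBit 1 then α else 0) + (if a.testBit 2 then α ^ 2 else 0)

theorem decF_zero (α : K) : decF α 0 = 0 := by simp [decF]

theorem decF_xor [CharP K 2] (α : K) (a b : Nat) : decF α (a ^^^ b) = decF α a + decF α b := by
  simp only [decF, Nat.testBit_xor]
  cases a.testBit 0 <;> cases b.testBit 0 <;> cases a.testBit 1 <;> cases b.testBit 1 <;>
    cases a.testBit 2 <;> cases b.testBit 2 <;> simp <;> ring_nf <;>
    simp [show (2 : K) = 0 from CharTwo.two_eq_zero]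

theorem mulA_lt {a : Nat} (ha : a < 8) : mulA a < 8 := by interval_cases a <;> decide

theorem decF_mulA [CharP K 2] {α : K} (hα : α ^ 3 = α + 1) {a : Nat} (ha : a < 8) :
    decF α (mulA a) = α * decF α a := by
  have h : α * α ^ 2 = α + 1 := by rw [← hα]; ring
  have h2 : α * α = α ^ 2 := by ring
  interval_cases a
  · rw [show mulA 0 = 0 by decide]; simp [decF]
  · rw [show mulA 1 = 2 by decide]; simp [decF, Nat.testBit]
  · rw [show mulA 2 = 4 by decide]; simp [decF, Nat.testBit, h2]
  · rw [show mulA 3 = 6 by decide]; simp [decF, Nat.testBit, mul_add, h2]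
  · rw [show mulA 4 = 3 by decide]; simp [decF, Nat.testBit, h, add_comm]
  · rw [show mulA 5 = 1 by decide]; simp [decF, Nat.testBit, mul_add, h]
    ring_nf
    simp [show (2 : K) = 0 from CharTwo.two_eq_zero]
  · rw [show mulA 6 = 7 by decide]; simp [decF, Nat.testBit, mul_add, h, h2]; ring
  · rw [show mulA 7 = 5 by decide]; simp [decF, Nat.testBit, mul_add, h, h2]; ring_nf
    simp [show (2 : K) = 0 from CharTwo.two_eq_zero]

theorem mulc_lt {t a : Nat} (ha : a < 8) : mulc t a < 8 := by
  have h1 := mulA_lt ha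
  have h2 := mulA_lt h1
  have hc : ∀ (c : Bool) {x : Nat}, x < 2 ^ 3 → cond c x 0 < 2 ^ 3 := fun c x hx => by
    cases c
    · exact Nat.two_pow_pos 3
    · exact hx
  exact Nat.xor_lt_two_pow (n := 3) (hc _ ha)
    (Nat.xor_lt_two_pow (n := 3) (hc _ h1) (hc _ h2))

theorem decF_mulc [CharP K 2] {α : K} (hα : α ^ 3 = α + 1) {t a : Nat} (ht : t < 8) (ha : a < 8) :
    decF α (mulc t a) = decF α t * decF α a := by
  have hc : ∀ (c : Bool) (x : Nat), decF α (cond c x 0) = (if c then 1 else 0) * decF α x :=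
    fun c x => by cases c <;> simp [decF_zero]
  have hb : Nat.beq (Nat.land t 1) 1 = t.testBit 0 ∧ Nat.beq (Nat.land t 2) 2 = t.testBit 1 ∧
      Nat.beq (Nat.land t 4) 4 = t.testBit 2 := by
    interval_cases t <;> decide
  show decF α (_ ^^^ (_ ^^^ _)) = _
  rw [decF_xor, decF_xor, hc, hc, hc, decF_mulA hα (mulA_lt ha), decF_mulA hα ha, hb.1, hb.2.1,
    hb.2.2]
  simp only [decF]
  cases t.testBit 0 <;> cases t.testBit 1 <;> cases t.testBit 2 <;> simp <;> ring

theorem exists_alpha [Fintype K] (hK : Fintype.card K = 8) :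
    CharP K 2 ∧ ∃ α : K, α ^ 3 = α + 1 := by
  have h2 : (2 : K) = 0 := by
    have h := FiniteField.cast_card_eq_zero K
    rw [hK, show ((8 : ℕ) : K) = (2 : K) ^ 3 by norm_num] at h
    exact eq_zero_of_pow_eq_zero h
  have hc : CharP K 2 := ringChar.of_eq
    (CharP.ringChar_of_prime_eq_zero Nat.prime_two (by exact_mod_cast h2))
  refine ⟨hc, ?_⟩
  classical
  obtain ⟨x, hx⟩ : ∃ x : K, x ∉ ({0, 1} : Finset K) := by
    refine Finset.exists_mem_notMem_of_card_lt_card (t := Finset.univ) ?_ |>.imp fun x hx => hx.2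
    rw [Finset.card_univ, hK]
    exact (Finset.card_le_two).trans_lt (by norm_num)
  simp only [Finset.mem_insert, Finset.mem_singleton, not_or] at hx
  have h7 : x ^ 7 = 1 := by
    have := FiniteField.pow_card_sub_one_eq_one x hx.1
    rwa [hK] at this
  have hp : (x - 1) * ((x ^ 3 + x + 1) * (x ^ 3 + x ^ 2 + 1)) = 0 := by
    linear_combination h7 + h2 * (x ^ 4 - x ^ 3)
  rcases mul_eq_zero.mp hp with h | h
  · exact absurd (sub_eq_zero.mp h) hx.2
  rcases mul_eq_zero.mp h with h | h
  · exact ⟨x, by linear_combination h - h2 * (x + 1)⟩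
  · refine ⟨x⁻¹, ?_⟩
    have hx0 := hx.1
    field_simp
    linear_combination -h + h2

theorem coord_lt (v k : Nat) : coord v k < 8 := Nat.lt_succ_of_le Nat.and_le_right

theorem coord_xor (v w k : Nat) : coord (v ^^^ w) k = coord v k ^^^ coord w k := by
  show (((v ^^^ w) >>> (3 * k)) &&& 7) = ((v >>> (3 * k)) &&& 7) ^^^ ((w >>> (3 * k)) &&& 7)
  rw [Nat.shiftRight_xor_distrib, Nat.and_xor_distrib_right]

theorem coord_place {a : Nat} (ha : a < 8) (j k : Nat) :
    coord (place a j) k = if k = j then a else 0 := by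
  show ((a <<< (3 * j)) >>> (3 * k)) &&& (2 ^ 3 - 1) = _
  refine Nat.eq_of_testBit_eq fun i => ?_
  rw [Nat.testBit_and, Nat.testBit_shiftRight, Nat.testBit_shiftLeft, Nat.testBit_two_pow_sub_one]
  rcases Nat.lt_or_ge i 3 with hi | hi
  · rcases Nat.lt_trichotomy k j with h | rfl | h
    · rw [if_neg h.ne, Nat.zero_testBit, decide_eq_false (p := 3 * k + i ≥ 3 * j) (by omega)]
      simp
    · rw [if_pos rfl, show 3 * k + i - 3 * k = i by omega]
      simp [hi]
    · rw [if_neg h.ne', Nat.zero_testBit, Nat.testBit_eq_false_of_lt (n := a)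
        (ha.trans_le (Nat.pow_le_pow_right two_pos (show 3 ≤ 3 * k + i - 3 * j by omega)))]
      simp
  · rw [decide_eq_false (p := i < 3) (by omega), Bool.and_false]
    split
    · exact (Nat.testBit_eq_false_of_lt (ha.trans_le (Nat.pow_le_pow_right two_pos hi))).symm
    · exact (Nat.zero_testBit i).symm

end CfsgLib.D4Spec
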