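import Cfsg.Agent.D4Spec.Points
import Cfsg.Agent.D4Spec.ChkA
import Cfsg.Agent.D4Spec.ChkB
import Cfsg.Agent.D4Spec.ChkE
import Cfsg.Agent.D4Spec.ChkE2
import Cfsg.Agent.D4Spec.ChkE3
import Cfsg.Agent.D4Spec.ChkE4
import Cfsg.Agent.D4Spec.ChkE5
import Cfsg.Agent.D4Spec.ChkF
import Cfsg.Agent.D4Spec.ChkG
import Cfsg.Agent.Coset.Prim
import Cfsg.Agent.D4Spec.ChkSyl
import Cfsg.Agent.SpecBlow.Basic
import Mathlib.GroupTheory.Sylow
import Mathlib.GroupTheory.SemidirectProduct

/-!
The triality group over two has the element orders of its extension by the natural module, and so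
shares them with finite groups of unbounded order.

An element whose order is divisible by 13, 7 or 3 commutes with an element of that order, conjugate
to a power of one of five listed elements; an element of two-power order is conjugate into a listed
Sylow subgroup. Each element of the five centralisers and of that subgroup either has a small order
whose double is again an element order, or is conjugate to a listed element of the same order whose
powers add up to zero on the module.
-/

set_option autoImplicit false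
set_option maxRecDepth 100000
set_option linter.unusedSectionVars false
set_option Elab.async false

namespace CfsgLib.D4Spec

open Cfsg.Lie CfsgLib.Chev CfsgLib.OrthElem CfsgLib.Coset

attribute [local irreducible] cnt

theorem cnt_eq : ∀ (d s : Nat) (f : Nat → Bool),
    cnt d s f = ((Finset.Ico (s * 2 ^ d) ((s + 1) * 2 ^ d)).filter fun i => f i = true).card := by
  intro d
  induction d with
  | zero =>
    intro s f
    simp only [pow_zero, mul_one]
    rw [Nat.Ico_succ_singleton, Finset.filter_singleton]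
    unfold cnt
    show cond (f s) 1 0 = _
    cases f s <;> simp
  | succ d ih =>
    intro s f
    rw [show cnt (d + 1) s f = cnt d (2 * s) f + cnt d (2 * s + 1) f by unfold cnt; rfl]
    rw [ih, ih, ← Finset.card_union_of_disjoint, ← Finset.filter_union,
      Finset.Ico_union_Ico_eq_Ico (Nat.mul_le_mul_right _ (Nat.le_succ _))
        (Nat.mul_le_mul_right _ (Nat.le_succ _))]
    · congr 3 <;> simp only [Nat.succ_eq_add_one, pow_succ] <;> ring
    · refine Finset.disjoint_left.mpr fun a ha hb => ?_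
      rw [Finset.mem_filter, Finset.mem_Ico] at ha hb
      exact absurd hb.1.1 (Nat.not_le.mpr ha.1.2)

theorem card_of_count {G : Type*} {Y : Set G} {d : Nat} {f : Nat → Bool} (φ : G → Nat)
    (hmem : ∀ x ∈ Y, f (φ x) = true) (hlt : ∀ i, f i = true → i < 2 ^ d)
    (hinj : Set.InjOn φ Y) (hsurj : ∀ i, f i = true → ∃ x ∈ Y, φ x = i) :
    Nat.card Y = cnt d 0 f := by
  have hb : Set.BijOn φ Y {i | f i = true} := ⟨hmem, hinj, hsurj⟩
  rw [cnt_eq, ← Set.ncard_coe_finset]
  refine (Nat.card_congr hb.equiv).trans ?_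
  rw [Nat.card_coe_set_eq]
  congr 1
  ext i
  simp only [Set.mem_setOf_eq, Finset.coe_filter, Finset.mem_Ico, zero_mul, one_mul, zero_add,
    Nat.zero_le, true_and, and_iff_right_iff_imp]
  exact ⟨fun h => ⟨hlt i h, h⟩, fun h => h.2⟩

/-- An element of prime power order is conjugate into a subgroup containing a Sylow subgroup. -/
theorem exists_conj_mem {G : Type*} [Group G] [Finite G] {p a : Nat} [Fact p.Prime]
    (ha : (Nat.card G).factorization p = a) {Y : Subgroup G} (hY : p ^ a ∣ Nat.card Y) {y : G}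
    {n : Nat} (hy : y ^ p ^ n = 1) : ∃ h : G, h * y * h⁻¹ ∈ Y := by
  obtain ⟨P, hP⟩ := Sylow.exists_subgroup_card_pow_prime p hY
  have hc : Nat.card (P.map Y.subtype) = p ^ (Nat.card G).factorization p := by
    rw [ha, ← hP]
    exact (Nat.card_congr (P.equivMapOfInjective _ Y.subtype_injective).toEquiv).symm
  obtain ⟨k, -, hk⟩ := (Nat.dvd_prime_pow (Fact.out : p.Prime)).mp (orderOf_dvd_of_pow_eq_one hy)
  have hpg : IsPGroup p (Subgroup.zpowers y) :=
    IsPGroup.of_card (n := k) (by rw [Nat.card_zpowers, hk])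
  obtain ⟨Q, hQ⟩ := hpg.exists_le_sylow
  obtain ⟨h, hh⟩ := MulAction.exists_smul_eq G Q (Sylow.ofCard _ hc)
  refine ⟨h, ?_⟩
  have hm : h * y * h⁻¹ ∈ ((h • Q : Sylow p G) : Subgroup G) := by
    rw [Sylow.coe_subgroup_smul]
    exact ⟨y, hQ (Subgroup.mem_zpowers y), rfl⟩
  rw [hh, Sylow.coe_ofCard] at hm
  obtain ⟨z, -, hz⟩ := hm
  exact hz ▸ z.2

theorem idxL_getD : ∀ (l : List Nat), l.Nodup → ∀ i < l.length, idxL l (l.getD i 0) = i := by
  intro l
  induction l with
  | nil => intro _ i hi; exact absurd hi (Nat.not_lt_zero i)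
  | cons a l ih =>
    intro hnd i hi
    obtain ⟨ha, hl⟩ := List.nodup_cons.mp hnd
    show cond (Nat.beq a ((a :: l).getD i 0)) 0 (idxL l ((a :: l).getD i 0) + 1) = i
    rcases i with _ | i
    · simp
    · have hi' : i < l.length := by simpa using hi
      rw [List.getD_cons_succ]
      cases hb : Nat.beq a (l.getD i 0) with
      | true =>
        refine absurd ?_ ha
        rw [Nat.eq_of_beq_eq_true hb, List.getD_eq_getElem _ _ hi']
        exact List.getElem_mem hi'
      | false => rw [cond_false, ih hl i hi']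

theorem getD_idxL : ∀ (l : List Nat) (p : Nat), idxL l p < l.length → l.getD (idxL l p) 0 = p := by
  intro l p
  induction l with
  | nil => intro h; exact absurd h (Nat.not_lt_zero _)
  | cons a l ih =>
    show cond (Nat.beq a p) 0 (idxL l p + 1) < (a :: l).length →
      (a :: l).getD (cond (Nat.beq a p) 0 (idxL l p + 1)) 0 = p
    cases hb : Nat.beq a p with
    | true => intro _; exact Nat.eq_of_beq_eq_true hb
    | false =>
      intro h
      rw [cond_false, List.getD_cons_succ]
      exact ih (by simpa using h)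

theorem split12 {j z : Nat} (hz : z < 4096) :
    Nat.shiftRight (4096 * j + z) 12 = j ∧ Nat.land (4096 * j + z) 4095 = z := by
  constructor
  · rw [Nat.shiftRight_eq, Nat.shiftRight_eq_div_pow]; omega
  · rw [show (4096 * j + z).land 4095 = (4096 * j + z) &&& (2 ^ 12 - 1) from rfl,
      Nat.and_two_pow_sub_one_eq_mod]
    omega

variable {K : Type*} [Field K] [CharP K 2] [Fintype K] {α : K} (hK : Fintype.card K = 8)
  (hα : α ^ 3 = α + 1)

set_option quotPrecheck false in
local notation "Gr" => ↥(twistedD4 K 2)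

/-- The action on the module. -/
noncomputable def φA : Gr →* MulAut (Multiplicative (I8 → K)) where
  toFun g := AddEquiv.toMultiplicative (A g).toAddEquiv
  map_one' := by rw [map_one]; rfl
  map_mul' g h := by rw [map_mul]; rfl

/-- The extension by the module. -/
abbrev Ext (K : Type*) [Field K] [CharP K 2] [Fintype K] : Type _ :=
  Multiplicative (I8 → K) ⋊[φA (K := K)] ↥(twistedD4 K 2)

/-- The element orders. -/
def spec (K : Type*) [Field K] : Set ℕ := Set.range (orderOf : twistedD4 K 2 → ℕ)

/-- Every lift of an element to the extension has an order of the group. -/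
def Ok (g : Gr) : Prop := ∀ x : Ext K, x.right = g → orderOf x ∈ spec K

instance : Finite (Ext K) :=
  Finite.of_equiv _ SemidirectProduct.equivProd.symm

theorem pow_facts (x : Ext K) : ∀ n : ℕ, (x ^ n).right = x.right ^ n ∧
    Multiplicative.toAdd (x ^ n).left =
      ∑ k ∈ Finset.range n, (A x.right ^ k) (Multiplicative.toAdd x.left) := by
  intro n
  induction n with
  | zero => simp
  | succ n ih =>
    refine ⟨by rw [pow_succ, SemidirectProduct.mul_right, ih.1, pow_succ], ?_⟩
    rw [pow_succ, SemidirectProduct.mul_left, toAdd_mul, ih.2, Finset.sum_range_succ, ih.1,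
      ← map_pow A x.right n]
    rfl

theorem sq_eq_one_of_right {x : Ext K} (h : x.right = 1) : x ^ 2 = 1 := by
  obtain ⟨h1, h2⟩ := pow_facts x 2
  refine SemidirectProduct.ext ?_ (by rw [h1, h, one_pow]; rfl)
  refine Multiplicative.toAdd.injective ?_
  rw [h2, h, map_one, Finset.sum_range_succ, Finset.sum_range_one, pow_zero, pow_one]
  funext i
  exact CharTwo.add_self_eq_zero _

theorem order_cases (x : Ext K) :
    orderOf x = orderOf x.right ∨ orderOf x = 2 * orderOf x.right := by
  have hd : orderOf x.right ∣ orderOf x :=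
    orderOf_map_dvd (SemidirectProduct.rightHom : Ext K →* Gr) x
  have h2 : orderOf x ∣ orderOf x.right * 2 := orderOf_dvd_of_pow_eq_one (by
    rw [pow_mul]
    exact sq_eq_one_of_right (by rw [(pow_facts x _).1, pow_orderOf_eq_one]))
  obtain ⟨c, hc⟩ := hd
  rw [hc] at h2
  rcases (Nat.dvd_prime Nat.prime_two).1 (Nat.dvd_of_mul_dvd_mul_left (orderOf_pos _) h2) with h | h
  · exact Or.inl (by rw [hc, h, mul_one])
  · exact Or.inr (by rw [hc, h, mul_comm])

theorem Ok.of_double {g : Gr} (h : 2 * orderOf g ∈ spec K) : Ok g := by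
  intro x hx
  rcases order_cases x with e | e
  · exact ⟨g, by rw [e, hx]⟩
  · rw [e, hx]; exact h

theorem Ok.of_norm {g : Gr}
    (h : ∀ v : I8 → K, ∑ k ∈ Finset.range (orderOf g), (A g ^ k) v = 0) : Ok g := by
  intro x hx
  refine ⟨g, ?_⟩
  have hd : orderOf x ∣ orderOf g := orderOf_dvd_of_pow_eq_one (by
    obtain ⟨h1, h2⟩ := pow_facts x (orderOf g)
    refine SemidirectProduct.ext ?_ (by rw [h1, hx, pow_orderOf_eq_one]; rfl)
    refine Multiplicative.toAdd.injective ?_
    rw [h2, hx, h]
    rfl)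
  refine Nat.dvd_antisymm ?_ hd
  rw [← hx]
  exact orderOf_map_dvd (SemidirectProduct.rightHom : Ext K →* Gr) x

theorem Ok.conj {g : Gr} (h : Ok g) (c : Gr) : Ok (c * g * c⁻¹) := by
  intro x hx
  let y : Ext K := SemidirectProduct.inr c⁻¹ * x * (SemidirectProduct.inr c⁻¹)⁻¹
  have hy : y.right = g := by
    simp only [y, SemidirectProduct.mul_right, SemidirectProduct.inv_right,
      SemidirectProduct.right_inr, hx]
    group
  rw [show orderOf x = orderOf y from
    ((MulAut.conj (SemidirectProduct.inr c⁻¹ : Ext K)).orderOf_eq x).symm]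
  exact h y hy

theorem Ok.of_conj {g : Gr} (c : Gr) (h : Ok (c * g * c⁻¹)) : Ok g := by
  simpa [mul_assoc] using h.conj c⁻¹

include hK hα

theorem VK : SK.Valid (L4 hα) (σ hK hα) Tb := valid_of hK hα levK

omit hK in
theorem len_L4 : (L4 hα).length = 4 := by simp [L4]

omit hK in
theorem letters_of {ws : List (List Nat)} (h : checkLetters 4 ws = true) :
    ∀ u ∈ ws, ∀ l ∈ u, l < (L4 hα).length := by
  rw [len_L4]; exact letters_lt h

omit hK in
theorem ev_rep (w : List Nat) : ∀ m, ev (L4 hα) (rep m w) = ev (L4 hα) w ^ m := by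
  intro m
  induction m with
  | zero => simp [rep]
  | succ m ih => rw [show rep (m + 1) w = w ++ rep m w from rfl, ev_append, ih, pow_succ']

omit hK in
theorem rep_letters {w : List Nat} (hw : ∀ l ∈ w, l < (L4 hα).length) :
    ∀ m, ∀ l ∈ rep m w, l < (L4 hα).length := by
  intro m
  induction m with
  | zero => intro l h; simp [rep] at h
  | succ m ih => exact fun l h => (List.mem_append.mp h).elim (hw l) (ih l)

omit hK in
theorem ev_inv (w : List Nat) : ev (L4 hα) (invWd id w) = (ev (L4 hα) w)⁻¹ :=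
  ev_invWd (fl_L4_inv hα) w

theorem ev_of_eqT {u w : List Nat} (h : eqT u w = true) : ev (L4 hα) u = ev (L4 hα) w := by
  rw [eqT, cond_false_eq_true] at h
  exact (VK hK hα).eq_of_eqB (by rw [len_L4]; exact h.1) h.2

theorem ordOK_spec {e : List Nat × Nat} (h : ordOK e = true) (h0 : 0 < e.2) :
    (∀ l ∈ e.1, l < (L4 hα).length) ∧ orderOf (ev (L4 hα) e.1) = e.2 := by
  rw [ordOK, cond_false_eq_true, cond_false_eq_true] at h
  have hl := letters_of hα h.1 e.1 (List.mem_singleton_self _)
  refine ⟨hl, (orderOf_eq_iff h0).mpr ⟨?_, fun m hm h0m hone => ?_⟩⟩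
  · rw [← ev_rep, ev_of_eqT hK hα h.2.1, ev_nil]
  · have hc := of_allBelow h.2.2 m hm
    rw [show Nat.beq m 0 = false from Bool.eq_false_iff.mpr fun e => h0m.ne' (Nat.eq_of_beq_eq_true e),
      cond_false, ((VK hK hα).eqB_iff (show 3 ≤ 8 by decide) (rep_letters hα hl m) (by simp)).mpr
        (by rw [ev_rep, hone, ev_nil]), cond_true] at hc
    exact Bool.noConfusion hc

theorem mem_spec {m : Nat} (hm : m ∈ ([2, 4, 6, 8, 12, 14, 18, 28] : List Nat)) : m ∈ spec K := by
  have hw : ∀ m ∈ ([2, 4, 6, 8, 12, 14, 18, 28] : List Nat), ∃ e ∈ witL, e.2 = m ∧ 0 < e.2 := by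
    decide +kernel
  obtain ⟨e, he, rfl, h0⟩ := hw m hm
  exact ⟨_, (ordOK_spec hK hα (allList_iff.mp wit_ok e he) h0).2⟩

theorem ok_of_pow {g : Gr} {k : Nat} (hk : k ∈ ([4, 6, 14, 9] : List Nat)) (h : g ^ k = 1) :
    Ok g := by
  have h1 := orderOf_dvd_of_pow_eq_one h
  have key : ∀ k ∈ ([4, 6, 14, 9] : List Nat), ∀ n < 15, n ∣ k →
      2 * n ∈ ([2, 4, 6, 8, 12, 14, 18, 28] : List Nat) := by decide +kernel
  have hle : ∀ k ∈ ([4, 6, 14, 9] : List Nat), 0 < k ∧ k < 15 := by decide
  exact Ok.of_double (mem_spec hK hα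
    (key k hk _ ((Nat.le_of_dvd (hle k hk).1 h1).trans_lt (hle k hk).2) h1))

omit hK in
theorem decV_zero : decV α 0 = (0 : I8 → K) := by
  funext i
  simp [decV, coord, Nat.shiftRight_eq, decF_zero]

omit hK in
theorem decV_xor (u v : Nat) : decV α (u ^^^ v) = decV α u + decV α v := by
  funext i
  simp [decV, coord_xor, decF_xor]

omit hK in
theorem normAt_sum {w : List Nat} (hw : ∀ l ∈ w, l < 4) : ∀ (n u : Nat),
    decV α (Nat.rec (motive := fun _ => Nat → Nat) (fun _ => 0)
      (fun _ ih u => force u fun u => Nat.xor u (ih (appL w u))) n u) =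
      ∑ k ∈ Finset.range n, (A (ev (L4 hα) w) ^ k) (decV α u) := by
  intro n
  induction n with
  | zero => intro u; rw [Finset.range_zero, Finset.sum_empty]; exact decV_zero hα
  | succ n ih =>
    intro u
    show decV α (force u _) = _
    rw [force_eq, show ∀ a b : Nat, Nat.xor a b = a ^^^ b from fun _ _ => rfl, decV_xor hα, ih,
      Finset.sum_range_succ', pow_zero, add_comm]
    congr 1
    refine Finset.sum_congr rfl fun k _ => ?_
    rw [pow_succ, LinearEquiv.mul_apply,
      A_ev hα (L := L4 hα) (k := 4) (by norm_num) (fun l hl => fl_L4 hα hl) w hw]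

theorem ok_reps {j : Nat} (hj : j < repsL.length) : Ok (ev (L4 hα) (repsL.getD j ([], 0)).1) := by
  have h0 : ∀ e ∈ repsL, 0 < e.2 := by decide +kernel
  rw [List.getD_eq_getElem _ _ hj]
  set e := repsL[j]
  have he : e ∈ repsL := List.getElem_mem hj
  obtain ⟨h1, h2⟩ := cond_false_eq_true.mp (allList_iff.mp reps_ok e he)
  obtain ⟨hl, ho⟩ := ordOK_spec hK hα h1 (h0 e he)
  rw [len_L4] at hl
  refine Ok.of_norm fun v => ?_
  rw [ho]
  suffices ∑ k ∈ Finset.range e.2, ((A (ev (L4 hα) e.1) ^ k).toLinearMap) = 0 by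
    simpa [LinearMap.sum_apply] using congrArg (fun f : (I8 → K) →ₗ[K] (I8 → K) => f v) this
  refine LinearMap.pi_ext' fun i => LinearMap.ext_ring ?_
  have hc := normAt_sum hα hl e.2 (place 1 (codeD4 i))
  have hn : normAt e (codeD4 i) = true := of_allBelow h2 _ (fits_D4.lt i)
  rw [normAt] at hn
  rw [Nat.eq_of_beq_eq_true hn, decV_zero hα, decV_basis _ (fits_D4.lt i),
    tableD4.pt_code fits_D4] at hc
  simpa [LinearMap.sum_apply] using hc.symm

theorem ok_of_liftOK {w : List Nat} {v : Nat} (h : liftOK w v = true) : Ok (ev (L4 hα) w) := by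
  rw [liftOK] at h
  cases hb : Nat.beq (Nat.land (Nat.shiftRight v 96) 65535) 0 with
  | true =>
    rw [hb, cond_true, easy] at h
    have key : ∀ k, eqT (rep k w) [] = true → ev (L4 hα) w ^ k = 1 := fun k hk => by
      rw [← ev_rep, ev_of_eqT hK hα hk, ev_nil]
    cases h4 : eqT (rep 4 w) [] with
    | true => exact ok_of_pow hK hα (k := 4) (by decide) (key 4 h4)
    | false =>
      rw [h4, cond_false] at h
      cases h6 : eqT (rep 6 w) [] with
      | true => exact ok_of_pow hK hα (k := 6) (by decide) (key 6 h6)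
      | false =>
        rw [h6, cond_false] at h
        cases h14 : eqT (rep 14 w) [] with
        | true => exact ok_of_pow hK hα (k := 14) (by decide) (key 14 h14)
        | false =>
          rw [h14, cond_false] at h
          exact ok_of_pow hK hα (k := 9) (by decide) (key 9 h)
  | false =>
    rw [hb, cond_false, cond_false_eq_true, Nat.ble_eq] at h
    have hj : Nat.sub (Nat.land (Nat.shiftRight v 96) 65535) 1 < repsL.length := by
      have h1 := h.1
      have h0 : Nat.land (Nat.shiftRight v 96) 65535 ≠ 0 := fun e => by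
        rw [e] at hb; exact Bool.noConfusion hb
      show Nat.land (Nat.shiftRight v 96) 65535 - 1 < _
      omega
    rw [ev_of_eqT hK hα h.2, ev_append, ev_append, ev_inv, ← mul_assoc]
    exact (ok_reps hK hα hj).conj _

/-- The data of an element of odd prime order is right. -/
structure CData.Good (D : CData) : Prop where
  lev : levOK D.S = true
  base : D.baseOK = true
  nd : D.fixed.Nodup
  small : D.fixed.length ≤ 16
  fix : D.cyc = false → D.fixOK = true
  lift : ∀ c, D.inR c = true → D.okLift c = true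

omit hK hα in
theorem inR_lt {D : CData} {c : Nat} (h : D.inR c = true) :
    (D.cyc = true → c < 2457) ∧
      (D.cyc = false → Nat.land c 4095 < 2457 ∧ Nat.shiftRight c 12 < D.fixed.length) := by
  rw [CData.inR] at h
  cases hc : D.cyc with
  | true => rw [hc, cond_true, Nat.ble_eq] at h; exact ⟨fun _ => h, fun e => Bool.noConfusion e⟩
  | false =>
    rw [hc, cond_false, cond_false_eq_true, Nat.ble_eq, Nat.ble_eq] at h
    exact ⟨fun e => Bool.noConfusion e, fun _ => h⟩

/-- The candidate number of an element. -/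
noncomputable def code (D : CData) (x : Gr) : Nat :=
  cond D.cyc (im (σ hK hα) x 0) (4096 * idxL D.fixed (im (σ hK hα) x 0) + im (σ hK hα) x 25)

theorem base_facts {D : CData} (H : D.Good) : (∀ l ∈ D.t, l < (L4 hα).length) ∧
    ev (L4 hα) D.t ^ D.p = 1 ∧ ev (L4 hα) D.t ≠ 1 ∧
    (D.cyc = true → im (σ hK hα) (ev (L4 hα) D.t) 0 = 25 ∧
      im (σ hK hα) (ev (L4 hα) D.t ^ D.e) 0 = D.r) ∧
    (D.cyc = false → im (σ hK hα) (ev (L4 hα) D.t) 0 = 0 ∧
      im (σ hK hα) (ev (L4 hα) D.t ^ D.e) 25 = D.r) := by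
  have h := H.base
  rw [CData.baseOK, cond_false_eq_true, cond_false_eq_true] at h
  obtain ⟨hl, hp, h⟩ := h
  have hl' := letters_of hα hl D.t (List.mem_singleton_self _)
  cases he : SK.eqB Tb D.t [] with
  | true => rw [he, cond_true] at h; exact Bool.noConfusion h
  | false =>
    rw [he, cond_false] at h
    refine ⟨hl', by rw [← ev_rep, ev_of_eqT hK hα hp, ev_nil], fun h1 => ?_, fun hc => ?_, fun hc => ?_⟩
    · rw [((VK hK hα).eqB_iff (show 3 ≤ 8 by decide) hl' (by simp)).mpr
        (h1.trans (ev_nil _).symm)] at he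
      exact Bool.noConfusion he
    · rw [hc, cond_true, cond_false_eq_true, followF_eq, followF_eq] at h
      refine ⟨?_, ?_⟩
      · rw [im_ev (matches_σ hK hα) hl' (by norm_num)]; exact Nat.eq_of_beq_eq_true h.1
      · rw [← ev_rep, im_ev (matches_σ hK hα) (rep_letters hα hl' _) (by norm_num)]
        exact Nat.eq_of_beq_eq_true h.2
    · rw [hc, cond_false, cond_false_eq_true, cond_false_eq_true, followF_eq, followF_eq] at h
      refine ⟨?_, ?_⟩
      · rw [im_ev (matches_σ hK hα) hl' (by norm_num)]; exact Nat.eq_of_beq_eq_true h.1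
      · rw [← ev_rep, im_ev (matches_σ hK hα) (rep_letters hα hl' _) (by norm_num)]
        exact Nat.eq_of_beq_eq_true h.2.1

theorem code_facts {D : CData} (H : D.Good) {x : Gr} (hx : Commute (ev (L4 hα) D.t) x) :
    D.inR (code hK hα D x) = true ∧
      D.pr (code hK hα D x) = (im (σ hK hα) x 0, im (σ hK hα) x 25) ∧
      ∀ i < 3, D.img (code hK hα D x) i = im (σ hK hα) x (D.S.B i) := by
  obtain ⟨hl, -, -, hcy, hfx⟩ := base_facts hK hα H
  have h0 : im (σ hK hα) x 0 < 2457 := im_lt x (by norm_num)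
  have h25 : im (σ hK hα) x 25 < 2457 := im_lt x (by norm_num)
  have hr : D.inR (code hK hα D x) = true ∧
      D.pr (code hK hα D x) = (im (σ hK hα) x 0, im (σ hK hα) x 25) := by
    cases hc : D.cyc with
    | true =>
      rw [code, CData.inR, CData.pr, hc, cond_true, cond_true, cond_true]
      refine ⟨Nat.ble_eq.mpr h0, Prod.ext rfl ?_⟩
      show followF (tget Tb) (im (σ hK hα) x 0) D.t = _
      rw [followF_eq, ← im_ev (matches_σ hK hα) hl h0, ← im_mul, ← hx.eq, im_mul, (hcy hc).1]
    | false =>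
      have hfixed : followF (tget Tb) (im (σ hK hα) x 0) D.t = im (σ hK hα) x 0 := by
        rw [followF_eq, ← im_ev (matches_σ hK hα) hl h0, ← im_mul, ← hx.eq, im_mul, (hfx hc).1]
      have hi := of_allBelow (H.fix hc) _ h0
      rw [hfixed, show Nat.beq (im (σ hK hα) x 0) (im (σ hK hα) x 0) = true from Nat.beq_refl _,
        cond_true, Nat.ble_eq] at hi
      obtain ⟨e1, e2⟩ := split12 (j := idxL D.fixed (im (σ hK hα) x 0)) (h25.trans (by norm_num))
      rw [code, CData.inR, CData.pr, hc, cond_false, cond_false, cond_false, e1, e2,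
        cond_false_eq_true, Nat.ble_eq, Nat.ble_eq]
      exact ⟨⟨h25, hi⟩, Prod.ext (getD_idxL _ _ hi) rfl⟩
  refine ⟨hr.1, hr.2, fun i hi => ?_⟩
  interval_cases i
  · show (D.pr _).1 = _
    rw [hr.2]; rfl
  · show (D.pr _).2 = _
    rw [hr.2]; rfl
  · show followF (tget Tb) (cond D.cyc (D.pr _).1 (D.pr _).2) (rep D.e D.t) = im (σ hK hα) x D.r
    rw [hr.2]
    cases hc : D.cyc with
    | true =>
      rw [cond_true]
      show followF (tget Tb) (im (σ hK hα) x 0) _ = _
      rw [followF_eq, ← im_ev (matches_σ hK hα) (rep_letters hα hl _) h0, ev_rep, ← im_mul,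
        ← (hx.pow_left D.e).eq, im_mul, (hcy hc).2]
    | false =>
      rw [cond_false]
      show followF (tget Tb) (im (σ hK hα) x 25) _ = _
      rw [followF_eq, ← im_ev (matches_σ hK hα) (rep_letters hα hl _) h25, ev_rep, ← im_mul,
        ← (hx.pow_left D.e).eq, im_mul, (hfx hc).2]

theorem sift_cent {D : CData} (H : D.Good) {x : Gr} (hx : Commute (ev (L4 hα) D.t) x) :
    ∃ w, D.S.sift Tb (D.img (code hK hα D x)) 3 = some w ∧ (∀ l ∈ w, l < (L4 hα).length) ∧
      ev (L4 hα) w = x ∧ D.good (code hK hα D x) w = true := by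
  obtain ⟨hl, -, -, -, -⟩ := base_facts hK hα H
  obtain ⟨-, hpr, himg⟩ := code_facts hK hα H hx
  have V : D.S.Valid (L4 hα) (σ hK hα) Tb := valid_of hK hα H.lev
  obtain ⟨w, hs, hw, he⟩ := V.sift_eq (x := x) himg
  refine ⟨w, hs, hw, he, ?_⟩
  rw [CData.good, cond_false_eq_true, cond_false_eq_true]
  refine ⟨(V.eqB_iff (show 3 ≤ 8 by decide) (by simpa [or_imp, forall_and] using ⟨hw, hl⟩)
    (by simpa [or_imp, forall_and] using ⟨hl, hw⟩)).mpr ?_, ?_, ?_⟩
  · rw [ev_append, ev_append, he, hx.eq]
  · rw [followF_eq, ← im_ev (matches_σ hK hα) hw (by norm_num), he, hpr]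
    exact Nat.beq_refl _
  · rw [followF_eq, ← im_ev (matches_σ hK hα) hw (by norm_num), he, hpr]
    exact Nat.beq_refl _

theorem ok_of_cent {D : CData} (H : D.Good) {x : Gr} (hx : Commute (ev (L4 hα) D.t) x) : Ok x := by
  obtain ⟨w, hs, hw, he, hg⟩ := sift_cent hK hα H hx
  have hin := (code_facts hK hα H hx).1
  have h := H.lift _ hin
  rw [CData.okLift, hin, cond_true, hs] at h
  change cond (D.good _ w) _ true = true at h
  rw [hg, cond_true] at h
  exact he ▸ ok_of_liftOK hK hα h

theorem card_cent {D : CData} (H : D.Good) (hd : D.d = cond D.cyc 12 16) :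
    Nat.card (Subgroup.centralizer {ev (L4 hα) D.t}) = cnt D.d 0 D.hit := by
  obtain ⟨hl, -, -, -, -⟩ := base_facts hK hα H
  have V : D.S.Valid (L4 hα) (σ hK hα) Tb := valid_of hK hα H.lev
  refine card_of_count (Y := (Subgroup.centralizer {ev (L4 hα) D.t} : Set Gr))
    (fun x => code hK hα D x) ?_ ?_ ?_ ?_
  · intro x hx
    have hc : Commute (ev (L4 hα) D.t) x := (Subgroup.mem_centralizer_singleton_iff.mp hx).symm
    obtain ⟨w, hs, -, -, hg⟩ := sift_cent hK hα H hc
    rw [CData.hit, (code_facts hK hα H hc).1, cond_true, hs]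
    exact hg
  · intro i h
    rw [CData.hit, cond_false_eq_true] at h
    obtain ⟨h1, h2⟩ := inR_lt h.1
    cases hc : D.cyc with
    | true => rw [hd, hc, cond_true]; exact (h1 hc).trans (by norm_num)
    | false =>
      rw [hd, hc, cond_false]
      have h3 := (h2 hc).2
      have hs := H.small
      rw [Nat.shiftRight_eq, Nat.shiftRight_eq_div_pow] at h3
      omega
  · intro x hx y hy h
    obtain ⟨-, -, hx'⟩ := code_facts hK hα H (Subgroup.mem_centralizer_singleton_iff.mp hx).symm
    obtain ⟨-, -, hy'⟩ := code_facts hK hα H (Subgroup.mem_centralizer_singleton_iff.mp hy).symm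
    exact V.ext fun i hi => by
      rw [← hx' i hi, ← hy' i hi]; exact congrArg (fun q => D.img q i) h
  · intro q h
    rw [CData.hit, cond_false_eq_true] at h
    cases hs : D.S.sift Tb (D.img q) 3 with
    | none => rw [hs] at h; exact Bool.noConfusion h.2
    | some w =>
      rw [hs] at h
      have h2 : D.good q w = true := h.2
      rw [CData.good, cond_false_eq_true, cond_false_eq_true, followF_eq, followF_eq] at h2
      have hw : ∀ l ∈ w, l < (L4 hα).length := sift_lt V hs
      refine ⟨ev (L4 hα) w, Subgroup.mem_centralizer_singleton_iff.mpr ?_, ?_⟩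
      · rw [← ev_append, ← ev_append]
        exact (V.eqB_iff (show 3 ≤ 8 by decide) (by simpa [or_imp, forall_and] using ⟨hw, hl⟩)
          (by simpa [or_imp, forall_and] using ⟨hl, hw⟩)).mp h2.1
      · obtain ⟨h1, h3⟩ := inR_lt h.1
        have e0 : im (σ hK hα) (ev (L4 hα) w) 0 = (D.pr q).1 := by
          rw [im_ev (matches_σ hK hα) hw (by norm_num)]; exact Nat.eq_of_beq_eq_true h2.2.1
        have e25 : im (σ hK hα) (ev (L4 hα) w) 25 = (D.pr q).2 := by
          rw [im_ev (matches_σ hK hα) hw (by norm_num)]; exact Nat.eq_of_beq_eq_true h2.2.2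
        show code hK hα D _ = q
        rw [code, e0, e25, CData.pr]
        cases hc : D.cyc with
        | true => rfl
        | false =>
          simp only [cond_false]
          rw [idxL_getD _ H.nd _ (h3 hc).2, Nat.shiftRight_eq, Nat.shiftRight_eq_div_pow,
            show q.land 4095 = q &&& (2 ^ 12 - 1) from rfl, Nat.and_two_pow_sub_one_eq_mod]
          omega
where
  sift_lt {S : SiftData} (V : S.Valid (L4 hα) (σ hK hα) Tb) {img : Nat → Nat} {w : List Nat}
      (h : S.sift Tb img S.k = some w) : ∀ l ∈ w, l < (L4 hα).length := by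
    suffices ∀ i ≤ S.k, ∀ w, S.sift Tb img i = some w → ∀ l ∈ w, l < (L4 hα).length from
      this S.k le_rfl w h
    intro i
    induction i with
    | zero =>
      intro _ w h
      cases h
      simp
    | succ i ih =>
      intro hi w h
      change Option.rec (motive := fun _ => Option (List Nat)) none (fun acc =>
        force (followI (tget Tb) S.iv (img i) acc) fun p => force (S.I i p) fun j =>
          cond (Nat.ble (Nat.add j 1) (S.m i)) (some (S.wd i j ++ acc)) none) (S.sift Tb img i) =
        some w at h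
      cases hs : S.sift Tb img i with
      | none => rw [hs] at h; cases h
      | some acc =>
        rw [hs] at h
        simp only [force_eq] at h
        cases hb : Nat.ble (Nat.add (S.I i (followI (tget Tb) S.iv (img i) acc)) 1) (S.m i) with
        | false => rw [hb, cond_false] at h; cases h
        | true =>
          rw [hb, cond_true, Option.some.injEq] at h
          subst h
          exact fun l hl => (List.mem_append.mp hl).elim
            ((V.wd_ok hi (Nat.ble_eq.mp hb)).1 l) (ih (by omega) acc hs l)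

/-- The five listed elements. -/
noncomputable def Tg (j : Nat) : Gr := ev (L4 hα) (tOf j)

theorem prime_of_cent {D : CData} (H : D.Good) (hp : ∀ c, D.inR c = true → D.okPrime c = true)
    {x : Gr} (hx : Commute (ev (L4 hα) D.t) x) (h1 : x ≠ 1) (hpow : x ^ D.p = 1) :
    ∃ (u : Gr) (j k : Nat), j < 16 ∧ ([3, 3, 7, 7, 13].getD j 0) = D.p ∧ ¬ D.p ∣ k ∧
      x = u * Tg hα j ^ k * u⁻¹ := by
  obtain ⟨w, hs, hw, he, hg⟩ := sift_cent hK hα H hx
  have hin := (code_facts hK hα H hx).1
  have h := hp _ hin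
  rw [CData.okPrime, hin, cond_true, hs] at h
  change cond (D.good _ w) _ true = true at h
  rw [hg, cond_true, primeOK] at h
  cases hw0 : eqT w [] with
  | true => exact absurd (he.symm.trans ((ev_of_eqT hK hα hw0).trans (ev_nil _))) h1
  | false =>
    rw [hw0, cond_false, ((VK hK hα).eqB_iff (show 3 ≤ 8 by decide) (rep_letters hα hw _)
      (by simp)).mpr (by rw [ev_rep, he, hpow, ev_nil]), cond_true] at h
    generalize D.cert (D.ix (code hK hα D x)) = v at h
    cases hk : Nat.beq (Nat.mod (Nat.shiftRight v 212) D.p) 0 with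
    | true => rw [hk, cond_true] at h; exact Bool.noConfusion h
    | false =>
      rw [hk, cond_false, cond_false_eq_true] at h
      refine ⟨ev (L4 hα) (uw (Nat.shiftRight v 112)), Nat.land (Nat.shiftRight v 208) 15,
        Nat.shiftRight v 212, Nat.lt_succ_of_le Nat.and_le_right, Nat.eq_of_beq_eq_true h.1,
        fun hd => ?_, he.symm.trans ((ev_of_eqT hK hα h.2).trans ?_)⟩
      · have : Nat.beq ((Nat.shiftRight v 212) % D.p) 0 = true := by
          rw [Nat.mod_eq_zero_of_dvd hd]; rfl
        exact Bool.noConfusion (hk.symm.trans this)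
      · rw [ev_append, ev_append, ev_rep, ev_inv, ← mul_assoc]; rfl

omit hK hα in
theorem ok_of_range {d n : Nat} {p : Nat → Bool} (h : allBelow d n p = true) {c : Nat}
    (hc : c < n) : p c = true := of_allBelow h c hc

omit hK hα in
theorem goodA : DA.Good :=
  ⟨levA, baseA, List.nodup_nil, Nat.zero_le _, fun h => Bool.noConfusion h,
    fun _ h => ok_of_range liftA (((inR_lt h).1 rfl).trans (by norm_num))⟩

omit hK hα in
theorem goodB : DB.Good :=
  ⟨levB, baseB, List.nodup_nil, Nat.zero_le _, fun h => Bool.noConfusion h,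
    fun _ h => ok_of_range liftB (((inR_lt h).1 rfl).trans (by norm_num))⟩

omit hK hα in
theorem goodF : DF.Good :=
  ⟨levF, baseF, List.nodup_nil, Nat.zero_le _, fun h => Bool.noConfusion h,
    fun _ h => ok_of_range liftF (((inR_lt h).1 rfl).trans (by norm_num))⟩

omit hK hα in
theorem goodG : DG.Good :=
  ⟨levG, baseG, List.nodup_nil, Nat.zero_le _, fun h => Bool.noConfusion h,
    fun _ h => ok_of_range liftG (((inR_lt h).1 rfl).trans (by norm_num))⟩

omit hK hα in
theorem of_blocks {f : Nat → Bool} (h0 : allBlock 14 0 f = true) (h1 : allBlock 14 1 f = true)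
    (h2 : allBlock 14 2 f = true) (h3 : allBlock 14 3 f = true) {c : Nat} (hc : c < 57344) :
    f c = true := by
  rcases Nat.lt_or_ge c 16384 with a | a
  · exact allBlock_iff 14 0 f h0 c (by omega) (by omega)
  rcases Nat.lt_or_ge c 32768 with b | b
  · exact allBlock_iff 14 1 f h1 c (by omega) (by omega)
  rcases Nat.lt_or_ge c 49152 with d | d
  · exact allBlock_iff 14 2 f h2 c (by omega) (by omega)
  · exact allBlock_iff 14 3 f h3 c (by omega) (by omega)

omit hK hα in
theorem cnt_succ (d s : Nat) (f : Nat → Bool) :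
    cnt (d + 1) s f = cnt d (2 * s) f + cnt d (2 * s + 1) f := by unfold cnt; rfl

omit hK hα in
theorem cntE : Nat.beq (cnt 16 0 DE.hit) 1176 = true := by
  rw [cnt_succ 15 0, cnt_succ 14 (2 * 0), cnt_succ 14 (2 * 0 + 1)]
  simp only [Nat.mul_zero, Nat.zero_add, Nat.mul_one]
  rw [Nat.eq_of_beq_eq_true cntE0, Nat.eq_of_beq_eq_true cntE1, Nat.eq_of_beq_eq_true cntE2,
    Nat.eq_of_beq_eq_true cntE3]
  rfl

omit hK hα in
theorem inR_E {c : Nat} (h : DE.inR c = true) : c < 57344 := by
  have h2 := ((inR_lt h).2 rfl).2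
  have hlen : DE.fixed.length = 14 := rfl
  rw [hlen, Nat.shiftRight_eq, Nat.shiftRight_eq_div_pow] at h2
  omega

omit hK hα in
theorem fixE_ok : DE.fixOK = true := by
  have h := baseE
  rw [CData.baseOK, cond_false_eq_true, cond_false_eq_true] at h
  have h3 := h.2.2
  cases he : SK.eqB Tb DE.t [] with
  | true => rw [he, cond_true] at h3; exact Bool.noConfusion h3
  | false =>
    rw [he, cond_false, show DE.cyc = false from rfl, cond_false, cond_false_eq_true,
      cond_false_eq_true] at h3
    exact h3.2.2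

omit hK hα in
theorem goodE : DE.Good :=
  ⟨levE, baseE, by show fixE.Nodup; decide +kernel, by show fixE.length ≤ 16; decide,
    fun _ => fixE_ok, fun _ h => of_blocks liftE0 liftE1 liftE2 liftE3 (inR_E h)⟩

theorem ok_commute_listed {j : Nat} (hj : j < 16) {p : Nat} (hp : p.Prime)
    (hjp : [3, 3, 7, 7, 13].getD j 0 = p) {k : Nat} (hk : ¬ p ∣ k) {g : Gr}
    (h : Commute (Tg hα j ^ k) g) : Ok g := by
  have main : ∀ D : CData, D.Good → D.p = p → ev (L4 hα) D.t = Tg hα j → Ok g := by
    intro D H hDp hDt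
    refine ok_of_cent hK hα H ?_
    obtain ⟨-, hpw, -, -, -⟩ := base_facts hK hα H
    rw [hDp] at hpw
    have hcop : Nat.Coprime k (orderOf (ev (L4 hα) D.t)) :=
      Nat.Coprime.coprime_dvd_right (orderOf_dvd_of_pow_eq_one hpw)
        ((hp.coprime_iff_not_dvd.mpr hk).symm)
    obtain ⟨m, hm⟩ := exists_pow_eq_self_of_coprime hcop
    rw [← hDt] at h
    rw [← hm]
    exact h.pow_left m
  rcases Nat.lt_or_ge j 5 with h5 | h5
  · interval_cases j
    · exact main DA goodA hjp rfl
    · exact main DB goodB hjp rfl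
    · exact main DE goodE hjp rfl
    · exact main DF goodF hjp rfl
    · exact main DG goodG hjp rfl
  · rw [List.getD_eq_default _ _ h5] at hjp
    exact absurd hjp.symm hp.ne_zero

theorem factorization_card {p a r : Nat} (hp : p.Prime) (he : 211341312 = p ^ a * r)
    (hr : ¬ p ∣ r) : (Nat.card Gr).factorization p = a := by
  have : Fact p.Prime := ⟨hp⟩
  have hr0 : r ≠ 0 := by rintro rfl; simp at he
  rw [card_group hK, he, Nat.factorization_def _ hp, padicValNat.mul (pow_ne_zero _ hp.ne_zero) hr0,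
    padicValNat.prime_pow, padicValNat.eq_zero_of_not_dvd hr, add_zero]

theorem ok_of_prime {D : CData} (H : D.Good) (hp : ∀ c, D.inR c = true → D.okPrime c = true)
    (hd : D.d = cond D.cyc 12 16) {p a r c : Nat} (hpr : p.Prime) (hDp : D.p = p)
    (he : 211341312 = p ^ a * r) (hr : ¬ p ∣ r) (hcnt : Nat.beq (cnt D.d 0 D.hit) c = true)
    (hc : p ^ a ∣ c) {g : Gr} (hdvd : p ∣ orderOf g) : Ok g := by
  have hpos := orderOf_pos g
  set y := g ^ (orderOf g / p) with hy
  have hy1 : y ≠ 1 := pow_ne_one_of_lt_orderOf (Nat.div_pos (Nat.le_of_dvd hpos hdvd) hpr.pos).ne'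
    (Nat.div_lt_self hpos hpr.one_lt)
  have hyp : y ^ p = 1 := by rw [hy, ← pow_mul, Nat.div_mul_cancel hdvd, pow_orderOf_eq_one]
  have : Fact p.Prime := ⟨hpr⟩
  obtain ⟨h, hh⟩ := exists_conj_mem (Y := Subgroup.centralizer {ev (L4 hα) D.t})
    (factorization_card hK hα hpr he hr)
    (by rwa [card_cent hK hα H hd, Nat.eq_of_beq_eq_true hcnt]) (y := y) (n := 1) (by rwa [pow_one])
  have hcom : Commute (ev (L4 hα) D.t) (h * y * h⁻¹) :=
    (Subgroup.mem_centralizer_singleton_iff.mp hh).symm
  obtain ⟨u, j, k, hj, hjp, hk, e⟩ := prime_of_cent hK hα H hp hcom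
    (fun h1 => hy1 (conj_eq_one_iff.mp h1)) (by rw [hDp, conj_pow, hyp, mul_one, mul_inv_cancel])
  refine Ok.of_conj (u⁻¹ * h) (ok_commute_listed hK hα hj hpr (hjp.trans hDp) (hDp ▸ hk) ?_)
  have e2 : Tg hα j ^ k = u⁻¹ * h * y * (u⁻¹ * h)⁻¹ := by
    calc Tg hα j ^ k = u⁻¹ * (u * Tg hα j ^ k * u⁻¹) * u := by group
      _ = _ := by rw [← e]; group
  rw [e2]
  exact (Commute.conj_iff _).mpr (Commute.pow_self g _)

omit hK in
/-- The listed elements of the Sylow subgroup. -/
noncomputable def sylEl (i : Nat) : Gr := ev (L4 hα) (uw (sylW i))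

theorem syl_facts {i : Nat} (hi : i < 4096) :
    sylEl hα i = ev (L4 hα) (sylFlat (unpack 32 (sylG i))) ∧ Ok (sylEl hα i) ∧
    (∀ l ∈ uw (sylW i), l < (L4 hα).length) ∧
    (i + 1 < 4096 → keyOf (uw (sylW i)) < keyOf (uw (sylW (i + 1)))) ∧
    ∀ g < 4, ∃ j < 4096, sylEl hα j = sylEl hα i * ev (L4 hα) (sylGens.getD g []) := by
  have h := of_allBelow syl_ok i hi
  rw [sylOK, force_eq, cond_false_eq_true, cond_false_eq_true, cond_false_eq_true] at h
  obtain ⟨h1, h2, h3, h4⟩ := h
  refine ⟨ev_of_eqT hK hα h1, ok_of_liftOK hK hα h2,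
    letters_of hα (cond_false_eq_true.mp h1).1 _ (List.mem_cons_self ..), fun hi' => ?_, fun g hg => ?_⟩
  · rw [show Nat.ble (Nat.add i 2) 4096 = true from Nat.ble_eq.mpr (by show i + 2 ≤ 4096; omega),
      cond_true] at h3
    exact Nat.ble_eq.mp h3
  · have := of_allBelow h4 g hg
    rw [cond_false_eq_true, Nat.ble_eq] at this
    exact ⟨_, this.1, (ev_of_eqT hK hα this.2).trans (ev_append _ _ _)⟩

/-- The Sylow subgroup as a monoid. -/
noncomputable def sylMon : Submonoid Gr where
  carrier := {x | ∃ i < 4096, sylEl hα i = x}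
  one_mem' := by
    have h := syl_base
    rw [sylBase, cond_false_eq_true, cond_false_eq_true, Nat.ble_eq] at h
    exact ⟨_, h.2.1, (ev_of_eqT hK hα h.2.2).trans (ev_nil _)⟩
  mul_mem' := by
    rintro _ _ ⟨i, hi, rfl⟩ ⟨j, hj, rfl⟩
    rw [(syl_facts hK hα hj).1]
    suffices ∀ (g : List Nat) (i : Nat), i < 4096 →
        ∃ m < 4096, sylEl hα m = sylEl hα i * ev (L4 hα) (sylFlat g) from this _ i hi
    intro g
    induction g with
    | nil => intro i hi; exact ⟨i, hi, by rw [show sylFlat [] = [] from rfl, ev_nil, mul_one]⟩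
    | cons a g ih =>
      intro i hi
      rw [show sylFlat (a :: g) = sylGens.getD a [] ++ sylFlat g from rfl, ev_append, ← mul_assoc]
      rcases Nat.lt_or_ge a 4 with ha | ha
      · obtain ⟨m, hm, e⟩ := (syl_facts hK hα hi).2.2.2.2 a ha
        obtain ⟨n, hn, e'⟩ := ih m hm
        exact ⟨n, hn, e'.trans (by rw [e])⟩
      · rw [List.getD_eq_default _ _ (le_trans (by decide) ha), ev_nil, mul_one]
        exact ih i hi

/-- The Sylow subgroup. -/
noncomputable def syl : Subgroup Gr :=
  { sylMon hK hα with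
    inv_mem' := fun {x} hx => by
      obtain ⟨n, hn⟩ := (isOfFinOrder_of_finite x).mem_powers_iff_mem_zpowers.mpr
        (inv_mem (Subgroup.mem_zpowers x))
      show x⁻¹ ∈ sylMon hK hα
      rw [← hn]
      exact pow_mem hx n }

theorem key_lt {i j : Nat} (hij : i < j) (hj : j < 4096) :
    keyOf (uw (sylW i)) < keyOf (uw (sylW j)) := by
  induction j, hij using Nat.le_induction with
  | base => exact (syl_facts hK hα (by omega)).2.2.2.1 hj
  | succ j hij ih => exact (ih (by omega)).trans ((syl_facts hK hα (by omega)).2.2.2.1 hj)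

theorem sylEl_inj {i j : Nat} (hi : i < 4096) (hj : j < 4096) (e : sylEl hα i = sylEl hα j) :
    i = j := by
  have hb : ∀ l < 3, SK.B l < 2457 := fun l hl => (VK hK hα).base_lt hl
  have hk : keyOf (uw (sylW i)) = keyOf (uw (sylW j)) := by
    have hw := fun {m : Nat} (hm : m < 4096) (l : Nat) (hl : l < 3) =>
      im_ev (matches_σ hK hα) (syl_facts hK hα hm).2.2.1 (hb l hl)
    have e' := fun l hl => (hw hi l hl).symm.trans
      ((congrArg (fun g => im (σ hK hα) g (SK.B l)) e).trans (hw hj l hl))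
    simp only [keyOf, followF_eq, e' 0 (by norm_num), e' 1 (by norm_num), e' 2 (by norm_num)]
  rcases Nat.lt_trichotomy i j with h | h | h
  · exact absurd hk (key_lt hK hα h hj).ne
  · exact h
  · exact absurd hk (key_lt hK hα h hi).ne'

theorem card_syl : Nat.card (syl hK hα) = 4096 := by
  have e : Fin 4096 ≃ syl hK hα := Equiv.ofBijective (fun i => ⟨sylEl hα i, i.1, i.2, rfl⟩)
    ⟨fun i j h => Fin.ext (sylEl_inj hK hα i.2 j.2 (congrArg Subtype.val h)),
      fun ⟨x, i, hi, e⟩ => ⟨⟨i, hi⟩, Subtype.ext e⟩⟩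
  rw [← Nat.card_congr e, Nat.card_fin]

theorem ok_of_two {g : Gr} {n : Nat} (hn : g ^ 2 ^ n = 1) : Ok g := by
  have : Fact (Nat.Prime 2) := ⟨Nat.prime_two⟩
  obtain ⟨h, i, hi, e⟩ := exists_conj_mem (Y := syl hK hα)
    (factorization_card hK hα Nat.prime_two (a := 12) (r := 51597) (by norm_num) (by norm_num))
    (by rw [card_syl]; norm_num) hn
  exact Ok.of_conj h (e ▸ (syl_facts hK hα hi).2.1)

theorem ok_all (g : Gr) : Ok g := by
  by_cases h13 : 13 ∣ orderOf g
  · exact ok_of_prime hK hα (D := DG) (p := 13) goodG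
      (fun _ h => ok_of_range primeG (((inR_lt h).1 rfl).trans (by norm_num))) rfl (a := 1)
      (r := 16257024) (c := 13) (by norm_num) rfl (by norm_num) (by norm_num) cntG (by norm_num) h13
  by_cases h7 : 7 ∣ orderOf g
  · exact ok_of_prime hK hα (D := DE) (p := 7) goodE (fun _ h => of_blocks primeE0 primeE1 primeE2 primeE3 (inR_E h)) rfl
      (a := 2) (r := 4313088) (c := 1176) (by norm_num) rfl (by norm_num) (by norm_num) cntE
      (by norm_num) h7
  by_cases h3 : 3 ∣ orderOf g
  · exact ok_of_prime hK hα (D := DB) (p := 3) goodB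
      (fun _ h => ok_of_range primeB (((inR_lt h).1 rfl).trans (by norm_num))) rfl (a := 4)
      (r := 2609152) (c := 648) (by norm_num) rfl (by norm_num) (by norm_num) cntB (by norm_num) h3
  refine ok_of_two hK hα (n := 12) (orderOf_dvd_iff_pow_eq_one.mp ?_)
  have c3 : Nat.Coprime (orderOf g) (3 ^ 4) :=
    (Nat.Prime.coprime_iff_not_dvd Nat.prime_three |>.mpr h3).symm.pow_right 4
  have c7 : Nat.Coprime (orderOf g) (7 ^ 2) :=
    (Nat.Prime.coprime_iff_not_dvd (by norm_num : Nat.Prime 7) |>.mpr h7).symm.pow_right 2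
  have c13 : Nat.Coprime (orderOf g) 13 :=
    (Nat.Prime.coprime_iff_not_dvd (by norm_num : Nat.Prime 13) |>.mpr h13).symm
  have hdvd : orderOf g ∣ 2 ^ 12 * (3 ^ 4 * 7 ^ 2 * 13) := by
    have := orderOf_dvd_natCard g
    rw [card_group hK] at this
    norm_num
    exact this
  exact ((c3.mul_right c7).mul_right c13).dvd_of_dvd_mul_right hdvd

theorem range_ext : Set.range (orderOf : Ext K → ℕ) = spec K := by
  refine Set.Subset.antisymm ?_ ?_
  · rintro _ ⟨x, rfl⟩
    exact ok_all hK hα x.right x rfl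
  · rintro _ ⟨g, rfl⟩
    exact ⟨SemidirectProduct.inr g, orderOf_injective SemidirectProduct.inr
      SemidirectProduct.inr_injective g⟩

theorem exists_isospectral (N : ℕ) :
    ∃ (H : Type) (_ : Group H) (_ : Fintype H), N < Fintype.card H ∧
      Set.range (orderOf : H → ℕ) = Set.range (orderOf : twistedD4 K 2 → ℕ) := by
  have hV : (SemidirectProduct.rightHom : Ext K →* Gr).ker ≠ ⊥ := by
    intro h
    have hm : (SemidirectProduct.inl (Multiplicative.ofAdd (fun _ : I8 => (1 : K))) : Ext K) ∈
        (SemidirectProduct.rightHom : Ext K →* Gr).ker := SemidirectProduct.rightHom_inl _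
    rw [h, Subgroup.mem_bot, ← map_one (SemidirectProduct.inl : _ →* Ext K)] at hm
    have := congrFun (congrArg Multiplicative.toAdd (SemidirectProduct.inl_injective hm))
      (Sum.inl 0)
    exact one_ne_zero this
  obtain ⟨H, i1, i2, hN, hr⟩ := CfsgLib.SpecBlow.exists_large_isospectral
    (SemidirectProduct.rightHom : Ext K →* Gr).ker hV Nat.prime_two
    (fun x => Subtype.ext (sq_eq_one_of_right x.2)) N
  exact ⟨H, i1, i2, hN, hr.trans (range_ext hK hα)⟩

end CfsgLib.D4Spec
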