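import Cfsg.Agent.D4Spec.ChkPts
import Cfsg.Agent.Chev.TwistedD4

/-!
The triality group over two acting on 2457 points of the natural projective space.
-/

set_option autoImplicit false
set_option maxRecDepth 100000
set_option linter.unusedSectionVars false

namespace CfsgLib.D4Spec

open Cfsg.Lie CfsgLib.Chev CfsgLib.OrthElem CfsgLib.Forms CfsgLib.Quad QuadraticMap CfsgLib.Coset

section Kernel

/-- Multiples of a point have the leading coordinate of the multiplier. -/
noncomputable def normOK (i : Nat) : Bool :=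
  cond (allBelow 3 8 fun a => Nat.beq (lead (scal a (PV i))) a) (Nat.beq (scal 1 (PV i)) (PV i)) false

/-- Every non-zero code has an inverse. -/
noncomputable def invCode : Bool :=
  allBelow 3 8 fun a => cond (Nat.beq a 0) true
    (List.rec (motive := fun _ => Bool) false (fun d _ ih => cond (Nat.beq (mulc a d) 1) true ih)
      (List.range 8))

end Kernel

theorem norm_ok : allBelow 12 2457 normOK = true := by decide +kernel

theorem inv_code : invCode = true := by decide +kernel

variable {K : Type*} [Field K]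

theorem decF_one (α : K) : decF α 1 = 1 := by simp [decF, Nat.testBit]

theorem exists_mul_one {a : Nat} (ha : a < 8) (h0 : a ≠ 0) : ∃ d < 8, mulc a d = 1 := by
  have h := of_allBelow inv_code a ha
  rw [show Nat.beq a 0 = false from Bool.eq_false_iff.mpr fun e => h0 (Nat.eq_of_beq_eq_true e),
    cond_false] at h
  suffices ∀ l : List Nat, List.rec (motive := fun _ => Bool) false
      (fun d _ ih => cond (Nat.beq (mulc a d) 1) true ih) l = true → ∃ d ∈ l, mulc a d = 1 by
    obtain ⟨d, hd, e⟩ := this (List.range 8) h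
    exact ⟨d, List.mem_range.mp hd, e⟩
  intro l
  induction l with
  | nil => intro h; exact Bool.noConfusion h
  | cons d l ih =>
    intro h
    cases hb : Nat.beq (mulc a d) 1 with
    | true => exact ⟨d, List.mem_cons_self .., Nat.eq_of_beq_eq_true hb⟩
    | false =>
      rw [show List.rec (motive := fun _ => Bool) false _ (d :: l) = cond (Nat.beq (mulc a d) 1) true _
        from rfl, hb, cond_false] at h
      obtain ⟨e, he, h'⟩ := ih h
      exact ⟨e, List.mem_cons_of_mem _ he, h'⟩

variable [CharP K 2] {α : K}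

theorem decF_ne_zero (hα : α ^ 3 = α + 1) {a : Nat} (ha : a < 8) (h0 : a ≠ 0) : decF α a ≠ 0 := by
  obtain ⟨d, hd, e⟩ := exists_mul_one ha h0
  intro h
  have := decF_mulc hα ha hd
  rw [e, decF_one, h, zero_mul] at this
  exact one_ne_zero this

theorem decF_injective (hα : α ^ 3 = α + 1) {a b : Nat} (ha : a < 8) (hb : b < 8)
    (h : decF α a = decF α b) : a = b := by
  by_contra hab
  refine decF_ne_zero hα (Nat.xor_lt_two_pow (n := 3) ha hb) (fun e => hab ?_) ?_
  · exact Nat.eq_of_testBit_eq fun i => by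
      have := congrArg (·.testBit i) e
      simpa [Nat.testBit_xor] using this
  · rw [decF_xor, h, CharTwo.add_self_eq_zero]

theorem coord_foldXor (f : Nat → Nat) (hf : ∀ k, f k < 8) (m : Nat) :
    ∀ n, coord (Nat.rec (motive := fun _ => Nat) 0 (fun k ih => Nat.xor ih (place (f k) k)) n) m =
      if m < n then f m else 0 := by
  intro n
  induction n with
  | zero => simp [coord, Nat.shiftRight_eq]
  | succ n ih =>
    show coord (_ ^^^ _) m = _
    rw [coord_xor, ih, coord_place (hf n)]
    rcases Nat.lt_trichotomy m n with h | rfl | h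
    · simp [h, h.ne, Nat.lt_succ_of_lt h]
    · simp
    · simp [h.ne', Nat.not_lt.mpr h.le, Nat.not_lt.mpr (Nat.succ_le_of_lt h)]

theorem coord_scal (c v : Nat) {m : Nat} (hm : m < 8) : coord (scal c v) m = mulc c (coord v m) := by
  rw [scal, coord_foldXor (fun k => mulc c (coord v k)) (fun k => mulc_lt (coord_lt _ _)) m 8,
    if_pos hm]

theorem decV_scal (hα : α ^ 3 = α + 1) {c : Nat} (hc : c < 8) (v : Nat) :
    decV α (scal c v) = decF α c • decV α v := by
  funext i
  simp only [decV, Pi.smul_apply, smul_eq_mul]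
  rw [coord_scal _ _ (fits_D4.lt i), decF_mulc hα hc (coord_lt _ _)]

theorem coord_eq_of_decV (hα : α ^ 3 = α + 1) {u v : Nat} (h : decV α u = decV α v) {k : Nat}
    (hk : k < 8) : coord u k = coord v k := by
  have := congrFun h (Table.pt codeD4 k)
  simp only [decV, tableD4.code_pt fits_D4 hk] at this
  exact decF_injective hα (coord_lt _ _) (coord_lt _ _) this

theorem lead_congr {u v : Nat} (h : ∀ k < 8, coord u k = coord v k) : lead u = lead v := by
  suffices ∀ l : List Nat, (∀ k ∈ l, k < 8) →
      List.rec (motive := fun _ => Nat) 0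
        (fun k _ ih => cond (Nat.beq (coord u k) 0) ih (coord u k)) l =
      List.rec (motive := fun _ => Nat) 0
        (fun k _ ih => cond (Nat.beq (coord v k) 0) ih (coord v k)) l from
    this _ fun k hk => List.mem_range.mp hk
  intro l
  induction l with
  | nil => intro _; rfl
  | cons k l ih =>
    intro hl
    show cond _ _ _ = cond _ _ _
    rw [h k (hl k (List.mem_cons_self ..)), ih fun j hj => hl j (List.mem_cons_of_mem _ hj)]

theorem lead_lt (v : Nat) : lead v < 8 := by
  suffices ∀ l : List Nat, List.rec (motive := fun _ => Nat) 0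
      (fun k _ ih => cond (Nat.beq (coord v k) 0) ih (coord v k)) l < 8 from this (List.range 8)
  intro l
  induction l with
  | nil => show 0 < 8; norm_num
  | cons k l ih =>
    show cond _ _ _ < 8
    cases Nat.beq (coord v k) 0
    · exact coord_lt _ _
    · exact ih

theorem eq_of_coord {u v : Nat} (hu : u < 2 ^ 24) (hv : v < 2 ^ 24)
    (h : ∀ k < 8, coord u k = coord v k) : u = v := by
  refine Nat.eq_of_testBit_eq fun i => ?_
  rcases Nat.lt_or_ge i 24 with hi | hi
  · have e := congrArg (·.testBit (i % 3)) (h (i / 3) (by omega))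
    have h7 : (7 : Nat).testBit (i % 3) = true := by
      have : i % 3 < 3 := Nat.mod_lt _ (by norm_num)
      interval_cases hh : i % 3 <;> rfl
    change ((u >>> (3 * (i / 3))) &&& 7).testBit _ = ((v >>> (3 * (i / 3))) &&& 7).testBit _ at e
    simp only [Nat.testBit_and, h7, Bool.and_true, Nat.testBit_shiftRight] at e
    rwa [show 3 * (i / 3) + i % 3 = i by omega] at e
  · rw [Nat.testBit_eq_false_of_lt (hu.trans_le (Nat.pow_le_pow_right two_pos hi)),
      Nat.testBit_eq_false_of_lt (hv.trans_le (Nat.pow_le_pow_right two_pos hi))]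

theorem pt_facts {i : Nat} (hi : i < 2457) : lead (PV i) = 1 ∧ PV i < 2 ^ 24 ∧
    (i + 1 < 2457 → PV i < PV (i + 1)) := by
  have h := of_allBelow pts_ok i hi
  rw [ptOK, cond_false_eq_true, cond_false_eq_true] at h
  refine ⟨Nat.eq_of_beq_eq_true h.1, Nat.ble_eq.mp h.2.1, fun h1 => ?_⟩
  have h2 := h.2.2
  rw [show Nat.ble (Nat.add i 2) 2457 = true from Nat.ble_eq.mpr (by show i + 2 ≤ 2457; omega),
    cond_true] at h2
  exact Nat.ble_eq.mp h2

theorem PV_strictMono {i j : Nat} (hij : i < j) (hj : j < 2457) : PV i < PV j := by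
  induction j, hij using Nat.le_induction with
  | base => exact (pt_facts (by omega)).2.2 hj
  | succ j hij ih => exact (ih (by omega)).trans ((pt_facts (by omega)).2.2 hj)

theorem line_unique (hα : α ^ 3 = α + 1) {i j a b : Nat} (hi : i < 2457) (hj : j < 2457) (ha : a < 8)
    (hb : b < 8) (h0 : a ≠ 0) (h : decF α a • decV α (PV i) = decF α b • decV α (PV j)) : i = j := by
  rw [← decV_scal hα ha, ← decV_scal hα hb] at h
  have hc := fun k hk => coord_eq_of_decV hα h (k := k) hk
  have hn := fun c (hc : c < 2457) => cond_false_eq_true.mp (of_allBelow norm_ok c hc)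
  have ea : a = b := by
    have e := lead_congr hc
    rwa [Nat.eq_of_beq_eq_true (of_allBelow (hn i hi).1 a ha),
      Nat.eq_of_beq_eq_true (of_allBelow (hn j hj).1 b hb)] at e
  subst ea
  have e : ∀ k < 8, coord (PV i) k = coord (PV j) k := fun k hk => by
    have e1 := congrArg (decF α) (hc k hk)
    rw [coord_scal _ _ hk, coord_scal _ _ hk, decF_mulc hα ha (coord_lt _ _),
      decF_mulc hα ha (coord_lt _ _)] at e1
    exact decF_injective hα (coord_lt _ _) (coord_lt _ _) (mul_left_cancel₀ (decF_ne_zero hα ha h0) e1)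
  have epv := eq_of_coord (pt_facts hi).2.1 (pt_facts hj).2.1 e
  rcases Nat.lt_trichotomy i j with h1 | h1 | h1
  · exact absurd epv (PV_strictMono h1 hj).ne
  · exact h1
  · exact absurd epv (PV_strictMono h1 hi).ne'

variable [Finite K]

theorem twisted_le : twistedD4 K 2 ≤ chevD4.group K := by
  refine (Subgroup.closure_le _).mpr ?_
  rintro g ⟨w, -, hg⟩
  rw [show g = (w.map fun p => good_D4.full.x p.1 p.2).prod from
    Units.ext (hg.trans (good_D4.full.coe_word w).symm)]
  refine Subgroup.list_prod_mem _ ?_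
  simp only [List.mem_map]
  rintro _ ⟨p, -, rfl⟩
  exact good_D4.x_mem_group _ _

/-- The natural representation of the triality group. -/
noncomputable def A : twistedD4 K 2 →* ((I8 → K) ≃ₗ[K] (I8 → K)) :=
  (oGroup (plusQ (F := K) 4)).subtype.comp (rho.comp (Subgroup.inclusion twisted_le))

/-- The product of a list of root elements with coded parameters. -/
noncomputable def rootProd (α : K) (W : List (Nat × Nat)) : GL chevD4.Idx K :=
  (W.map fun p => good_D4.full.x p.1 (decF α p.2)).prod

theorem rootProd_group (α : K) (W : List (Nat × Nat)) : rootProd α W ∈ chevD4.group K := by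
  refine Subgroup.list_prod_mem _ ?_
  simp only [List.mem_map]
  rintro _ ⟨p, -, rfl⟩
  exact good_D4.x_mem_group _ _

theorem rho_rootProd (hα : α ^ 3 = α + 1) : ∀ (W : List (Nat × Nat)),
    (∀ p ∈ W, p.1 < 24 ∧ p.2 < 8) → ∀ v, (rho (⟨rootProd α W, rootProd_group α W⟩ : chevD4.group K)).1
      (decV α v) = decV α (appW W v)
  | [], _, v => by
    rw [show (⟨rootProd α [], rootProd_group α []⟩ : chevD4.group K) = 1 from rfl, map_one]
    rfl
  | p :: W, hW, v => by
    obtain ⟨hr, ht⟩ := hW p (List.mem_cons_self ..)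
    rw [show (⟨rootProd α (p :: W), rootProd_group α (p :: W)⟩ : chevD4.group K) =
        ⟨good_D4.full.x p.1 (decF α p.2), good_D4.x_mem_group _ _⟩ * ⟨rootProd α W, rootProd_group α W⟩
        from Subtype.ext (by simp [rootProd]), map_mul, Subgroup.coe_mul, LinearEquiv.mul_apply,
      rho_rootProd hα W (fun q hq => hW q (List.mem_cons_of_mem _ hq)), rho_x hr, decV_appR hα hr ht]
    show _ = decV α (force (appW W v) fun u => appR p.1 p.2 u)
    rw [force_eq]

theorem twW_ok : ∀ neg : Fin 2, ∀ a : Fin 8, ∀ p ∈ twW neg a, p.1 < 24 ∧ p.2 < 8 := by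
  decide +kernel

theorem gen_ok : ∀ l : Fin 8, ∀ p ∈ genW l, p.1 < 24 ∧ p.2 < 8 := by decide +kernel

theorem gen_tw : ∀ l : Fin 8, (l.1 = 0 ∧ genW l = [(14, 1)]) ∨ (l.1 = 1 ∧ genW l = [(9, 1)]) ∨
    ∃ neg : Fin 2, ∃ a : Fin 8, genW l = twW neg a := by decide +kernel

theorem genW_empty {l : Nat} (h : 8 ≤ l) : genW l = [] :=
  List.getD_eq_default _ _ (le_trans (by decide +kernel) h)

theorem rootProd_twW_mem (hα : α ^ 3 = α + 1) (neg : Fin 2) (a : Fin 8) :
    rootProd α (twW neg a) ∈ twistedD4 K 2 := by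
  refine Subgroup.subset_closure
    ⟨(twW neg a).map (fun p => (p.1, decF α p.2)), Or.inr ⟨decF α a.1, ?_⟩, ?_⟩
  · have h1 : mulc a.1 a.1 < 8 := mulc_lt a.2
    have e1 : decF α (mulc a.1 a.1) = decF α a.1 ^ 2 := by rw [decF_mulc hα a.2 a.2, pow_two]
    have e2 : decF α (mulc (mulc a.1 a.1) (mulc a.1 a.1)) = decF α a.1 ^ (2 ^ 2) := by
      rw [decF_mulc hα h1 h1, e1]; ring
    fin_cases neg
    · refine ⟨(18, 13, 12), by decide, ?_⟩
      simp [twW, e1, e2, show Nat.beq 0 0 = true from rfl]
    · refine ⟨(5, 10, 11), by decide, ?_⟩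
      simp [twW, e1, e2, show Nat.beq 1 0 = false from rfl]
  · rw [rootProd, ← good_D4.full.coe_word, List.map_map]
    rfl

theorem genW_mem (hα : α ^ 3 = α + 1) (l : Nat) : rootProd α (genW l) ∈ twistedD4 K 2 := by
  rcases Nat.lt_or_ge l 8 with hl | hl
  · rcases gen_tw ⟨l, hl⟩ with ⟨-, e⟩ | ⟨-, e⟩ | ⟨neg, a, e⟩
    · refine Subgroup.subset_closure ⟨[(14, 1)], Or.inl ⟨1, one_pow _, 14, by decide, rfl⟩, ?_⟩
      rw [show genW l = _ from e, rootProd, ← good_D4.full.coe_word]
      simp [decF_one]
    · refine Subgroup.subset_closure ⟨[(9, 1)], Or.inl ⟨1, one_pow _, 9, by decide, rfl⟩, ?_⟩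
      rw [show genW l = _ from e, rootProd, ← good_D4.full.coe_word]
      simp [decF_one]
    · rw [show genW l = _ from e]
      exact rootProd_twW_mem hα neg a
  · rw [genW_empty hl]
    exact one_mem _

section Action

variable [Fintype K] (hK : Fintype.card K = 8) (hα : α ^ 3 = α + 1)

/-- The generators. -/
noncomputable def gx (l : Nat) : twistedD4 K 2 := ⟨rootProd α (genW l), genW_mem hα l⟩

theorem A_gx {l : Nat} (hl : l < 8) (v : Nat) :
    A (gx hα l) (decV α v) = decV α (appW (genW l) v) :=
  rho_rootProd hα _ (gen_ok ⟨l, hl⟩) v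

/-- An element sends the listed points to listed points. -/
def Moves (α : K) (g : twistedD4 K 2) : Prop :=
  ∀ i < 2457, ∃ j < 2457, ∃ c < 8, c ≠ 0 ∧ A g (decV α (PV i)) = decF α c • decV α (PV j)

theorem moves_one : Moves α (1 : twistedD4 K 2) := fun i hi =>
  ⟨i, hi, 1, by norm_num, by norm_num, by rw [map_one, decF_one, one_smul]; rfl⟩

theorem mulc_ne_zero {c d : Nat} (hc : c < 8) (hd : d < 8) (h1 : c ≠ 0) (h2 : d ≠ 0) :
    mulc c d ≠ 0 := by
  have h : ∀ c : Fin 8, ∀ d : Fin 8, c.1 ≠ 0 → d.1 ≠ 0 → mulc c d ≠ 0 := by decide +kernel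
  exact h ⟨c, hc⟩ ⟨d, hd⟩ h1 h2

include hα in
theorem Moves.mul {g h : twistedD4 K 2} (hg : Moves α g) (hh : Moves α h) : Moves α (g * h) := by
  intro i hi
  obtain ⟨j, hj, c, hc, c0, e⟩ := hh i hi
  obtain ⟨k, hk, d, hd, d0, e'⟩ := hg j hj
  refine ⟨k, hk, mulc c d, mulc_lt hd, mulc_ne_zero hc hd c0 d0, ?_⟩
  rw [map_mul, LinearEquiv.mul_apply, e, map_smul, e', smul_smul, decF_mulc hα hc hd]

theorem tget_lt {i l : Nat} (hi : i < 2457) (hl : l < 8) : tget Tb i l < 2457 :=
  Nat.ble_eq.mp (cond_false_eq_true.mp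
    (force_eq (appW (genW l) (PV i)) _ ▸ of_allBelow (of_allBelow mov_ok i hi) l hl)).1

theorem A_gx_PV {l i : Nat} (hl : l < 8) (hi : i < 2457) :
    ∃ c < 8, c ≠ 0 ∧ A (gx hα l) (decV α (PV i)) = decF α c • decV α (PV (tget Tb i l)) := by
  have h := of_allBelow (of_allBelow mov_ok i hi) l hl
  rw [force_eq, cond_false_eq_true] at h
  cases hb : Nat.beq (lead (appW (genW l) (PV i))) 0 with
  | true => rw [hb, cond_true] at h; exact Bool.noConfusion h.2
  | false =>
    rw [hb, cond_false] at h
    refine ⟨lead (appW (genW l) (PV i)), lead_lt _, fun e => ?_, ?_⟩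
    · rw [e] at hb; exact Bool.noConfusion hb
    · rw [A_gx hα hl, ← decV_scal hα (lead_lt _), Nat.eq_of_beq_eq_true h.2]

theorem moves_gx (l : Nat) : Moves α (gx hα l) := by
  rcases Nat.lt_or_ge l 8 with hl | hl
  · intro i hi
    exact ⟨_, tget_lt hi hl, A_gx_PV hα hl hi⟩
  · rw [show gx hα l = 1 from Subtype.ext (by
      show rootProd α (genW l) = 1; rw [genW_empty hl]; rfl)]
    exact moves_one

/-- All generators as a list. -/
noncomputable def L8 : List (twistedD4 K 2) := (List.range 8).map (gx hα)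

theorem fl_L8 {l : Nat} (hl : l < 8) : fl (L8 hα) l = gx hα l := by
  simp [fl, L8, List.getD_eq_getElem?_getD, hl]

theorem moves_ev : ∀ w : List Nat, (∀ l ∈ w, l < 8) → Moves α (ev (L8 hα) w) := by
  intro w
  induction w with
  | nil => intro _; rw [ev_nil]; exact moves_one
  | cons l w ih =>
    intro hw
    rw [ev_cons, fl_L8 hα (hw l (List.mem_cons_self ..))]
    exact (moves_gx hα l).mul hα (ih fun x hx => hw x (List.mem_cons_of_mem _ hx))

theorem A_ev {L : List (twistedD4 K 2)} {k : Nat} (hk : k ≤ 8) (hL : ∀ l < k, fl L l = gx hα l) :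
    ∀ w : List Nat, (∀ l ∈ w, l < k) → ∀ v, A (ev L w) (decV α v) = decV α (appL w v) := by
  intro w
  induction w with
  | nil => intro _ v; rw [ev_nil, map_one]; rfl
  | cons l w ih =>
    intro hw v
    have hl := hw l (List.mem_cons_self ..)
    rw [ev_cons, map_mul, LinearEquiv.mul_apply, ih (fun x hx => hw x (List.mem_cons_of_mem _ hx)),
      hL l hl, A_gx hα (lt_of_lt_of_le hl hk)]
    show _ = decV α (force (appL w v) fun u => appW (genW l) u)
    rw [force_eq]

theorem decV_basis (c : Nat) (hc : c < 8) :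
    decV α (place 1 c) = (Pi.single (Table.pt codeD4 c) 1 : I8 → K) := by
  funext i
  rw [decV, coord_place (by norm_num)]
  by_cases h : codeD4 i = c
  · rw [if_pos h, decF_one, ← h, tableD4.pt_code fits_D4, Pi.single_eq_same]
  · rw [if_neg h, decF_zero, Pi.single_eq_of_ne]
    rintro rfl
    exact h (tableD4.code_pt fits_D4 hc)

/-- A linear map is determined by the coded basis. -/
theorem ext_basis {f g : (I8 → K) ≃ₗ[K] (I8 → K)}
    (h : ∀ c < 8, f (decV α (place 1 c)) = g (decV α (place 1 c))) : f = g := by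
  refine LinearEquiv.toLinearMap_injective (LinearMap.pi_ext' fun j => LinearMap.ext_ring ?_)
  have := h (codeD4 j) (fits_D4.lt j)
  rw [decV_basis _ (fits_D4.lt j), tableD4.pt_code fits_D4] at this
  exact this

theorem twL_lt : ∀ neg : Fin 2, ∀ a : Fin 8, ∀ l ∈ twL neg a, l < 8 := by decide +kernel

theorem moves_twW (neg : Fin 2) (a : Fin 8) :
    Moves α (⟨rootProd α (twW neg a), rootProd_twW_mem hα neg a⟩ : twistedD4 K 2) := by
  have e : A (⟨rootProd α (twW neg a), rootProd_twW_mem hα neg a⟩ : twistedD4 K 2) =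
      A (ev (L8 hα) (twL neg a)) := by
    refine ext_basis (α := α) fun c hc => ?_
    rw [A_ev hα le_rfl (fun l hl => fl_L8 hα hl) _ (twL_lt neg a)]
    have h := of_allBelow (of_allBelow (of_allBelow tw_ok a.1 a.2) neg.1 neg.2) c hc
    rw [← Nat.eq_of_beq_eq_true h]
    exact rho_rootProd hα _ (twW_ok neg a) _
  intro i hi
  rw [e]
  exact moves_ev hα _ (twL_lt neg a) i hi

include hK hα in
theorem exists_code (t : K) : ∃ a : Fin 8, decF α a.1 = t := by
  have hinj : Function.Injective fun a : Fin 8 => decF α a.1 :=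
    fun a b h => Fin.ext (decF_injective hα a.2 b.2 h)
  exact ((Fintype.bijective_iff_injective_and_card _).mpr
    ⟨hinj, by rw [hK, Fintype.card_fin]⟩).2 t

theorem moves_of_eq {x : GL chevD4.Idx K} {hx : x ∈ twistedD4 K 2} {g : twistedD4 K 2}
    (h : Moves α g) (e : x = g.1) : Moves α (⟨x, hx⟩ : twistedD4 K 2) := by
  rwa [show (⟨x, hx⟩ : twistedD4 K 2) = g from Subtype.ext e]

include hK hα in
theorem moves_all (g : twistedD4 K 2) : Moves α g := by
  obtain ⟨g, hg⟩ := g
  let M : Submonoid (GL chevD4.Idx K) :=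
    { carrier := {x | ∃ h : x ∈ twistedD4 K 2, Moves α (⟨x, h⟩ : twistedD4 K 2)}
      one_mem' := ⟨one_mem _, moves_of_eq moves_one (Subgroup.coe_one _).symm⟩
      mul_mem' := by
        rintro x y ⟨hx, px⟩ ⟨hy, py⟩
        exact ⟨mul_mem hx hy, moves_of_eq (px.mul hα py) (Subgroup.coe_mul (twistedD4 K 2) ⟨x, hx⟩ ⟨y, hy⟩).symm⟩ }
  have hmem : g ∈ M := by
    rw [twistedD4, ChevalleyDatum.genSubgroup] at hg
    rw [← Subgroup.mem_toSubmonoid, Subgroup.closure_toSubmonoid_of_finite] at hg
    refine (Submonoid.closure_le.mpr ?_) hg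
    rintro x ⟨w, hw, hx⟩
    have hx' : x = (w.map fun p => good_D4.full.x p.1 p.2).prod :=
      Units.ext (hx.trans (good_D4.full.coe_word w).symm)
    refine ⟨Subgroup.subset_closure ⟨w, hw, hx⟩, ?_⟩
    rcases hw with ⟨t, ht, r, hr, rfl⟩ | ⟨t, rs, hrs, rfl⟩
    · have h01 : t = 0 ∨ t = 1 := by
        rcases mul_eq_zero.mp (show t * (t - 1) = 0 by linear_combination ht) with h | h
        · exact Or.inl h
        · exact Or.inr (sub_eq_zero.mp h)
      rw [List.map_singleton, List.prod_singleton] at hx'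
      simp only at hx'
      rcases h01 with rfl | rfl
      · refine moves_of_eq (h := moves_one) ?_
        rw [hx', good_D4.full.x_zero]; rfl
      · simp only [List.mem_cons, List.not_mem_nil, or_false, d4p2, d4m2] at hr
        rcases hr with rfl | rfl
        · refine moves_of_eq (h := moves_gx hα 0) ?_
          rw [hx']
          show _ = rootProd α [(14, 1)]
          rw [rootProd, List.map_singleton, List.prod_singleton, decF_one]
        · refine moves_of_eq (h := moves_gx hα 1) ?_
          rw [hx']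
          show _ = rootProd α [(9, 1)]
          rw [rootProd, List.map_singleton, List.prod_singleton, decF_one]
    · obtain ⟨a, rfl⟩ := exists_code hK hα t
      have h1 : mulc a.1 a.1 < 8 := mulc_lt a.2
      have e1 : decF α (mulc a.1 a.1) = decF α a.1 ^ 2 := by rw [decF_mulc hα a.2 a.2, pow_two]
      have e2 : decF α (mulc (mulc a.1 a.1) (mulc a.1 a.1)) = decF α a.1 ^ (2 ^ 2) := by
        rw [decF_mulc hα h1 h1, e1, ← pow_two, ← pow_mul]; rfl
      simp only [List.mem_cons, List.not_mem_nil, or_false, d4p1, d4p3, d4p4, d4m1, d4m3, d4m4]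
        at hrs
      rcases hrs with rfl | rfl
      · refine moves_of_eq (h := moves_twW hα 0 a) ?_
        rw [hx']
        show _ = rootProd α [(18, a.1), (13, mulc a.1 a.1), (12, mulc (mulc a.1 a.1) (mulc a.1 a.1))]
        simp only [rootProd, List.map_cons, List.map_nil, e1, e2]
      · refine moves_of_eq (h := moves_twW hα 1 a) ?_
        rw [hx']
        show _ = rootProd α [(5, a.1), (10, mulc a.1 a.1), (11, mulc (mulc a.1 a.1) (mulc a.1 a.1))]
        simp only [rootProd, List.map_cons, List.map_nil, e1, e2]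
  exact hmem.2

/-- The image of a point. -/
noncomputable def mv (g : twistedD4 K 2) (i : Fin 2457) : Fin 2457 :=
  ⟨(moves_all hK hα g i i.2).choose, (moves_all hK hα g i i.2).choose_spec.1⟩

theorem mv_eq {g : twistedD4 K 2} {i : Fin 2457} {j c : Nat} (hj : j < 2457) (hc : c < 8)
    (h0 : c ≠ 0) (h : A g (decV α (PV i)) = decF α c • decV α (PV j)) :
    (mv hK hα g i).1 = j := by
  obtain ⟨hk, d, hd, d0, e⟩ := (moves_all hK hα g i i.2).choose_spec
  exact line_unique hα hk hj hd hc d0 (e.symm.trans h)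

theorem mv_one (i : Fin 2457) : mv hK hα 1 i = i :=
  Fin.ext (mv_eq hK hα i.2 (c := 1) (by norm_num) (by norm_num)
    (by rw [map_one, decF_one, one_smul]; rfl))

theorem mv_mul (g h : twistedD4 K 2) (i : Fin 2457) :
    mv hK hα (g * h) i = mv hK hα g (mv hK hα h i) := by
  obtain ⟨hk, d, hd, d0, e⟩ := (moves_all hK hα h i i.2).choose_spec
  obtain ⟨hk', d', hd', d0', e'⟩ := (moves_all hK hα g _ hk).choose_spec
  refine Fin.ext (mv_eq hK hα hk' (mulc_lt (t := d) hd') (mulc_ne_zero hd hd' d0 d0') ?_)
  rw [map_mul, LinearEquiv.mul_apply, e, map_smul, e', smul_smul, decF_mulc hα hd hd']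
  rfl

/-- The action on the points. -/
noncomputable def σ : twistedD4 K 2 →* Equiv.Perm (Fin 2457) where
  toFun g :=
    { toFun := mv hK hα g
      invFun := mv hK hα g⁻¹
      left_inv := fun i => by rw [← mv_mul, inv_mul_cancel, mv_one]
      right_inv := fun i => by rw [← mv_mul, mul_inv_cancel, mv_one] }
  map_one' := Equiv.ext fun i => mv_one hK hα i
  map_mul' g h := Equiv.ext fun i => mv_mul hK hα g h i

/-- The four generators used for words. -/
noncomputable def L4 : List (twistedD4 K 2) := (List.range 4).map (gx hα)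

theorem fl_L4 {l : Nat} (hl : l < 4) : fl (L4 hα) l = gx hα l := by
  simp [fl, L4, List.getD_eq_getElem?_getD, hl]

theorem comm_tw : ∀ a ∈ ([18, 13, 12, 5, 10, 11] : List Nat), ∀ b ∈ ([18, 13, 12, 5, 10, 11] : List Nat),
    (decide (a ∈ ([18, 13, 12] : List Nat)) == decide (b ∈ ([18, 13, 12] : List Nat))) = true →
      D4Data.tab.chkCommute 0 a b = true := by decide +kernel

theorem gx_sq : ∀ l < 4, gx hα l * gx hα l = 1 := by
  intro l hl
  have hone : ∀ r (t : K), good_D4.full.x r t * good_D4.full.x r t = 1 := fun r t => by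
    rw [good_D4.full.x_add, CharTwo.add_self_eq_zero, good_D4.full.x_zero]
  refine Subtype.ext ?_
  show rootProd α (genW l) * rootProd α (genW l) = 1
  have three : ∀ {a b c : Nat}, D4Data.tab.chkCommute 0 a b = true →
      D4Data.tab.chkCommute 0 a c = true → D4Data.tab.chkCommute 0 b c = true → ∀ t u v : K,
      (good_D4.full.x a t * (good_D4.full.x b u * good_D4.full.x c v)) *
        (good_D4.full.x a t * (good_D4.full.x b u * good_D4.full.x c v)) = 1 := by
    intro a b c hab hac hbc t u v
    have c1 := good_D4.x_commute (F := K) Nat.cast_zero hab t u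
    have c2 := good_D4.x_commute (F := K) Nat.cast_zero hac t v
    have c3 := good_D4.x_commute (F := K) Nat.cast_zero hbc u v
    have hBC : (good_D4.full.x b u * good_D4.full.x c v) *
        (good_D4.full.x b u * good_D4.full.x c v) = 1 := by
      rw [c3.symm.mul_mul_mul_comm, hone, hone, one_mul]
    rw [(c1.mul_right c2).symm.mul_mul_mul_comm, hone, hBC, one_mul]
  interval_cases l
  · simp [rootProd, genW, genList, hone]
  · simp [rootProd, genW, genList, hone]
  · simp only [rootProd, genW, genList, List.getD_cons_succ, List.getD_cons_zero, List.map_cons,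
      List.map_nil, List.prod_cons, List.prod_nil, mul_one]
    exact three (comm_tw _ (by decide) _ (by decide) (by decide))
      (comm_tw _ (by decide) _ (by decide) (by decide))
      (comm_tw _ (by decide) _ (by decide) (by decide)) _ _ _
  · simp only [rootProd, genW, genList, List.getD_cons_succ, List.getD_cons_zero, List.map_cons,
      List.map_nil, List.prod_cons, List.prod_nil, mul_one]
    exact three (comm_tw _ (by decide) _ (by decide) (by decide))
      (comm_tw _ (by decide) _ (by decide) (by decide))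
      (comm_tw _ (by decide) _ (by decide) (by decide)) _ _ _

theorem fl_L4_inv (l : Nat) : fl (L4 hα) l = (fl (L4 hα) l)⁻¹ := by
  rcases Nat.lt_or_ge l 4 with hl | hl
  · rw [fl_L4 hα hl]
    exact eq_inv_of_mul_eq_one_left (gx_sq hα l hl)
  · rw [fl_of_le _ (by simpa [L4] using hl), inv_one]

theorem matches_σ : Matches (L4 hα) (σ hK hα) Tb := by
  intro l hl i
  have hl4 : l < 4 := by simpa [L4] using hl
  have hl8 : l < 8 := by omega
  rw [← map_inv, ← fl_L4_inv, fl_L4 hα hl4]
  obtain ⟨c, hc, h0, e⟩ := A_gx_PV hα hl8 i.2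
  exact mv_eq hK hα (tget_lt i.2 hl8) hc h0 e

include hK in
theorem card_group : Nat.card (twistedD4 K 2) = 211341312 := by
  obtain ⟨C⟩ := CfsgLib.Chev.D4Tw.exists_ctx (K := K) (q := 2) Nat.prime_two.isPrimePow
    (by rw [hK]; norm_num)
  rw [← C.grp_eq, C.card_group]
  norm_num

theorem valid_of {r : Nat} {P : List Nat} (h : levOK (mkS r P) = true) :
    (mkS r P).Valid (L4 hα) (σ hK hα) Tb where
  hm := matches_σ hK hα
  inv l := fl_L4_inv hα l
  inv_lt l hl := hl
  lev i hi := ⟨12, by
    rw [show (L4 hα).length = 4 by simp [L4]]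
    exact of_allBelow h i hi⟩
  card := by
    show Nat.card (twistedD4 K 2) = ∏ i : Fin 3, (mkS r P).m i
    rw [card_group hK, Fin.prod_univ_three]
    show 211341312 = 2457 * 2048 * 42
    norm_num
  fin := inferInstance

end Action

end CfsgLib.D4Spec
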