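import Cfsg.Agent.D4Spec.Gf8
import Cfsg.Agent.OrthElem.Iso

/-!
The natural representation of the Chevalley group of type D₄ in characteristic two, on coded vectors.
-/

set_option autoImplicit false

namespace CfsgLib.D4Spec

open Cfsg.Lie CfsgLib.Chev CfsgLib.OrthElem CfsgLib.Forms CfsgLib.Quad QuadraticMap CfsgLib.Coset

section Kernel

/-- The first coordinate of a root. -/
noncomputable def rootA (r : Nat) : Nat :=
  [4, 4, 3, 4, 2, 4, 5, 3, 5, 5, 6, 6, 2, 7, 6, 1, 1, 1, 5, 0, 0, 0, 0, 0].getD r 0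

/-- The second coordinate of a root. -/
noncomputable def rootB (r : Nat) : Nat :=
  [5, 6, 4, 7, 4, 1, 6, 5, 7, 2, 3, 7, 3, 2, 1, 3, 7, 2, 0, 6, 3, 7, 2, 1].getD r 0

/-- The opposite coordinate. -/
noncomputable def dualC (k : Nat) : Nat := Nat.land (Nat.add k 4) 7

/-- A root element applied to a coded vector. -/
noncomputable def appR (r t v : Nat) : Nat :=
  Nat.xor v (Nat.xor (place (mulc t (coord v (dualC (rootA r)))) (rootB r))
    (place (mulc t (coord v (dualC (rootB r)))) (rootA r)))

/-- A word of root elements applied to a coded vector. -/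
noncomputable def appW (w : List (Nat × Nat)) (v : Nat) : Nat :=
  List.rec (motive := fun _ => Nat) v (fun f _ ih => force ih fun u => appR f.1 f.2 u) w

end Kernel

/-- The table agrees with the lists. -/
theorem table_roots : ∀ r : Fin 24, tableD4.chkCode r = true ∧
    (tableD4.get r).1 = rootA r ∧ (tableD4.get r).2.1 = rootB r ∧
    tableD4.dual (rootA r) = dualC (rootA r) ∧ tableD4.dual (rootB r) = dualC (rootB r) ∧
    tableD4.pc (rootB r) = 1 ∧ tableD4.qb (rootB r) = 0 ∧
    dualC (rootA r) < 8 ∧ dualC (rootB r) < 8 ∧ rootA r < 8 ∧ rootB r < 8 ∧ rootA r ≠ rootB r := by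
  decide +kernel

/-- The coordinates. -/
abbrev I8 : Type := Fin 4 ⊕ Fin 4

variable (K : Type*) [Field K]

/-- The root elements in the natural representation. -/
noncomputable abbrev yD (r : ℕ) (t : K) : oGroup (plusQ (F := K) 4) :=
  tableD4.y (plusQ 4) codeD4 r t

/-- The representation of Steinberg's cover. -/
noncomputable abbrev homD : chevD4.SteinbergCover K →* oGroup (plusQ (F := K) 4) :=
  tableD4.hom (frame_plus 4) fits_D4 good_D4 chk_D4

variable {K}

theorem signD {r : ℕ} (hr : r < 24) [CharP K 2] : (((tableD4.get r).2.2 : ℤ) : K) = 1 := by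
  obtain ⟨a, b, -, -, -, -, -, -, -, hs⟩ :=
    tableD4.code_spec (F := K) fits_D4 (table_roots ⟨r, hr⟩).1
  have h : ((((tableD4.get r).2.2 : ℤ) : K) - 1) * ((((tableD4.get r).2.2 : ℤ) : K) + 1) = 0 := by
    linear_combination hs
  rcases mul_eq_zero.mp h with h1 | h1
  · exact sub_eq_zero.mp h1
  · rw [eq_neg_of_add_eq_zero_left h1, CharTwo.neg_eq]

theorem yD_apply [CharP K 2] {r : ℕ} (hr : r < 24) (t : K) (x : I8 → K) (i : I8) :
    (yD K r t).1 x i = x i +
      (if rootB r = codeD4 i then t * x (Table.pt codeD4 (dualC (rootA r))) else 0) +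
      (if rootA r = codeD4 i then t * x (Table.pt codeD4 (dualC (rootB r))) else 0) := by
  obtain ⟨hc, ea, eb, da, db, hpc, hqb, -⟩ := table_roots ⟨r, hr⟩
  rw [yD, tableD4.y_apply (frame_plus 4) fits_D4 hc, signD hr, ea, eb]
  simp only at da db hpc hqb
  rw [da, db, hpc, hqb]
  simp [CharTwo.neg_eq]

/-- The coded vector. -/
noncomputable def decV (α : K) (v : ℕ) : I8 → K := fun i => decF α (coord v (codeD4 i))

theorem decV_appR [CharP K 2] {α : K} (hα : α ^ 3 = α + 1) {r t : ℕ} (hr : r < 24) (ht : t < 8)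
    (v : ℕ) : (yD K r (decF α t)).1 (decV α v) = decV α (appR r t v) := by
  obtain ⟨-, -, -, -, -, -, -, ha', hb', ha, hb, -⟩ := table_roots ⟨r, hr⟩
  simp only at ha' hb' ha hb
  funext i
  rw [yD_apply hr]
  simp only [decV, appR, tableD4.code_pt fits_D4 ha', tableD4.code_pt fits_D4 hb']
  rw [show ∀ a b : ℕ, Nat.xor a b = a ^^^ b from fun _ _ => rfl,
    show ∀ a b : ℕ, Nat.xor a b = a ^^^ b from fun _ _ => rfl, coord_xor, coord_xor,
    coord_place (mulc_lt (coord_lt _ _)), coord_place (mulc_lt (coord_lt _ _)), decF_xor, decF_xor]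
  simp only [eq_comm (a := codeD4 i)]
  split_ifs <;> simp [decF_zero, decF_mulc hα ht (coord_lt _ _)] <;> ring

/-- In the natural representation the centre of the cover acts trivially. -/
theorem homD_eq_one [Finite K] [CharP K 2] {z : chevD4.SteinbergCover K}
    (hz : z ∈ (good_D4.scθ K).ker) : homD K z = 1 := by
  set S := good_D4.scData (good_D4.scθ K) (fun r t hr => good_D4.coe_scθ hr t) with hS
  have hzc : z ∈ Subgroup.center (chevD4.SteinbergCover K) := by
    rw [← S.ker_eq_center ⟨_, wits_D4⟩]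
    exact congrArg Subtype.val hz
  set A := homD K z with hA
  set M : I8 → I8 → K := fun i j => A.1 (Pi.single j 1) i with hM
  have hcom : ∀ r < 24, ∀ x i, A.1 ((yD K r 1).1 x) i = (yD K r 1).1 (A.1 x) i := by
    intro r hr x i
    have e : A * yD K r 1 = yD K r 1 * A := by
      rw [hA, show yD K r 1 = homD K (chevD4.scGen K r 1) from
        (tableD4.hom_scGen (frame_plus 4) fits_D4 good_D4 chk_D4 hr 1).symm, ← map_mul, ← map_mul,
        Subgroup.mem_center_iff.mp hzc]
    have e2 := congrArg (fun g : oGroup (plusQ (F := K) 4) => g.1 x i) e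
    simpa [Subgroup.coe_mul, LinearEquiv.mul_apply] using e2
  have hpt : ∀ k : Fin 8, codeD4 (Table.pt codeD4 k.1) = k.1 := fun k =>
    tableD4.code_pt fits_D4 k.2
  have key : ∀ r < 24, ∀ i : I8,
      A.1 (Pi.single (Table.pt codeD4 (rootB r)) 1) i =
        (if rootB r = codeD4 i then
          M (Table.pt codeD4 (dualC (rootA r))) (Table.pt codeD4 (dualC (rootA r))) else 0) +
        (if rootA r = codeD4 i then
          M (Table.pt codeD4 (dualC (rootB r))) (Table.pt codeD4 (dualC (rootA r))) else 0) ∧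
      A.1 (Pi.single (Table.pt codeD4 (rootA r)) 1) i =
        (if rootB r = codeD4 i then
          M (Table.pt codeD4 (dualC (rootA r))) (Table.pt codeD4 (dualC (rootB r))) else 0) +
        (if rootA r = codeD4 i then
          M (Table.pt codeD4 (dualC (rootB r))) (Table.pt codeD4 (dualC (rootB r))) else 0) := by
    intro r hr
    obtain ⟨-, -, -, -, -, -, -, ha', hb', ha, hb, hne⟩ := table_roots ⟨r, hr⟩
    simp only at ha' hb' ha hb hne
    have cA := tableD4.code_pt fits_D4 ha'
    have cB := tableD4.code_pt fits_D4 hb'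
    have ca := tableD4.code_pt fits_D4 ha
    have cb := tableD4.code_pt fits_D4 hb
    have hd : dualC (rootA r) ≠ dualC (rootB r) := fun e => hne (by
      have h : ∀ a < 8, ∀ b < 8, dualC a = dualC b → a = b := by decide +kernel
      exact h _ ha _ hb e)
    have one : ∀ (p q u v : I8), p ≠ q → (∀ i, (yD K r 1).1 (Pi.single p (1 : K)) i =
        (Pi.single p (1 : K) + Pi.single u 1 : I8 → K) i) → v = v →
        A.1 (Pi.single u 1) = fun i => (yD K r 1).1 (A.1 (Pi.single p 1)) i - A.1 (Pi.single p 1) i := by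
      intro p q u v _ hp _
      funext i
      have h1 := hcom r hr (Pi.single p 1) i
      rw [show (yD K r 1).1 (Pi.single p (1 : K)) = Pi.single p 1 + Pi.single u 1 from funext hp,
        map_add, Pi.add_apply] at h1
      rw [← h1]; ring
    have hy : ∀ i, (yD K r 1).1 (Pi.single (Table.pt codeD4 (dualC (rootA r))) (1 : K)) i =
        (Pi.single (Table.pt codeD4 (dualC (rootA r))) (1 : K) +
          Pi.single (Table.pt codeD4 (rootB r)) 1 : I8 → K) i ∧
        (yD K r 1).1 (Pi.single (Table.pt codeD4 (dualC (rootB r))) (1 : K)) i =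
        (Pi.single (Table.pt codeD4 (dualC (rootB r))) (1 : K) +
          Pi.single (Table.pt codeD4 (rootA r)) 1 : I8 → K) i := by
      intro i
      have n1 : Table.pt codeD4 (dualC (rootB r)) ≠ Table.pt codeD4 (dualC (rootA r)) := fun e =>
        hd (by rw [← cA, ← cB, e])
      have eb : i = Table.pt codeD4 (rootB r) ↔ rootB r = codeD4 i :=
        ⟨fun e => by rw [e, cb], fun e => by rw [e, tableD4.pt_code fits_D4]⟩
      have ea : i = Table.pt codeD4 (rootA r) ↔ rootA r = codeD4 i :=
        ⟨fun e => by rw [e, ca], fun e => by rw [e, tableD4.pt_code fits_D4]⟩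
      constructor <;> rw [yD_apply hr] <;>
        simp [Pi.single_apply, n1, n1.symm, eb, ea]
    intro i
    constructor
    · rw [one _ (Table.pt codeD4 (dualC (rootB r))) _ i (fun e => hd (by rw [← cA, ← cB, e]))
        (fun j => (hy j).1) rfl]
      simp only [yD_apply hr, one_mul, hM]
      ring
    · rw [one _ (Table.pt codeD4 (dualC (rootA r))) _ i (fun e => hd (by rw [← cA, ← cB, e]))
        (fun j => (hy j).2) rfl]
      simp only [yD_apply hr, one_mul, hM]
      ring
  have cover : ∀ k j : Fin 8, k ≠ j → ∃ r : Fin 24,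
      (rootA r = k.1 ∨ rootB r = k.1) ∧ rootA r ≠ j.1 ∧ rootB r ≠ j.1 := by decide +kernel
  have hoff : ∀ i j : I8, i ≠ j → M i j = 0 := by
    intro i j hij
    obtain ⟨r, hk, h1, h2⟩ := cover ⟨codeD4 j, fits_D4.lt j⟩ ⟨codeD4 i, fits_D4.lt i⟩
      (fun e => hij (fits_D4.inj (Fin.mk.inj e)).symm)
    obtain ⟨kb, ka⟩ := key r r.2 i
    rcases hk with hk | hk
    · simp only at hk h1 h2
      rw [hk, tableD4.pt_code fits_D4, if_neg (by omega), if_neg (by omega), add_zero] at ka
      exact ka
    · simp only at hk h1 h2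
      rw [hk, tableD4.pt_code fits_D4, if_neg (by omega), if_neg (by omega), add_zero] at kb
      exact kb
  set d : ℕ → K := fun k => M (Table.pt codeD4 k) (Table.pt codeD4 k) with hd'
  have hedge : ∀ r < 24, d (rootB r) = d (dualC (rootA r)) ∧ d (rootA r) = d (dualC (rootB r)) := by
    intro r hr
    obtain ⟨-, -, -, -, -, -, -, ha', hb', ha, hb, hne⟩ := table_roots ⟨r, hr⟩
    simp only at ha' hb' ha hb hne
    have ca := tableD4.code_pt fits_D4 ha
    have cb := tableD4.code_pt fits_D4 hb
    constructor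
    · have := (key r hr (Table.pt codeD4 (rootB r))).1
      rw [cb, if_pos rfl, if_neg hne, add_zero] at this
      exact this
    · have := (key r hr (Table.pt codeD4 (rootA r))).2
      rw [ca, if_pos rfl, if_neg hne.symm, zero_add] at this
      exact this
  have hall : ∀ k : Fin 8, d k.1 = d 0 := by
    have pairs : ∀ a b : Fin 8, a ≠ b → b.1 ≠ dualC a.1 → ∃ r : Fin 24,
        (dualC (rootA r) = a.1 ∧ rootB r = b.1) ∨ (dualC (rootB r) = a.1 ∧ rootA r = b.1) ∨
        (dualC (rootA r) = b.1 ∧ rootB r = a.1) ∨ (dualC (rootB r) = b.1 ∧ rootA r = a.1) := by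
      decide +kernel
    have e : ∀ a b : Fin 8, a ≠ b → b.1 ≠ dualC a.1 → d a.1 = d b.1 := by
      intro a b hab hb
      obtain ⟨r, ⟨p, q⟩ | ⟨p, q⟩ | ⟨p, q⟩ | ⟨p, q⟩⟩ := pairs a b hab hb
      · rw [← p, ← q]; exact (hedge r r.2).1.symm
      · rw [← p, ← q]; exact (hedge r r.2).2.symm
      · rw [← p, ← q]; exact (hedge r r.2).1
      · rw [← p, ← q]; exact (hedge r r.2).2
    intro k
    have route : ∀ k : Fin 8, k = 0 ∨ (k ≠ 0 ∧ (0 : Fin 8).1 ≠ dualC k.1) ∨
        (k ≠ 1 ∧ (1 : Fin 8).1 ≠ dualC k.1) := by decide +kernel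
    rcases route k with rfl | ⟨h1, h2⟩ | ⟨h1, h2⟩
    · rfl
    · exact e k 0 h1 h2
    · exact (e k 1 h1 h2).trans (e 1 0 (by decide) (by decide +kernel))
  have hscal : ∀ j, A.1 (Pi.single j 1) = d 0 • (Pi.single j 1 : I8 → K) := by
    intro j
    funext i
    by_cases hij : i = j
    · subst hij
      have := hall ⟨codeD4 i, fits_D4.lt i⟩
      simp only [hd', tableD4.pt_code fits_D4] at this
      simpa [hM] using this
    · simpa [hij] using hoff i j hij
  have hone : d 0 = 1 := by
    have h := polar_oGroup A (Pi.single (Sum.inl 0) (1 : K)) (Pi.single (Sum.inr 0) 1)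
    rw [hscal, hscal, polar_smul_left, polar_smul_right,
      (frame_plus (F := K) 4).polar_hyp _ _ (by simp)] at h
    simp at h
    have h2 : (d 0 - 1) * (d 0 + 1) = 0 := by linear_combination h
    rcases mul_eq_zero.mp h2 with h1 | h1
    · exact sub_eq_zero.mp h1
    · rw [eq_neg_of_add_eq_zero_left h1, CharTwo.neg_eq]
  refine Subtype.ext (LinearEquiv.toLinearMap_injective (LinearMap.pi_ext' fun j => ?_))
  refine LinearMap.ext_ring ?_
  show A.1 (Pi.single j 1) = Pi.single j 1
  rw [hscal, hone, one_smul]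

theorem scθ_surjective : Function.Surjective (good_D4.scθ K) := by
  rintro ⟨g, hg⟩
  rw [← (good_D4.scData (good_D4.scθ K) (fun r t hr => good_D4.coe_scθ hr t)).θ_range] at hg
  obtain ⟨e, rfl⟩ := hg
  exact ⟨e, rfl⟩

/-- The natural representation. -/
noncomputable def rho [Finite K] [CharP K 2] : chevD4.group K →* oGroup (plusQ (F := K) 4) :=
  MonoidHom.liftOfSurjective (good_D4.scθ K) scθ_surjective
    ⟨homD K, fun _ hz => MonoidHom.mem_ker.mpr (homD_eq_one hz)⟩

theorem rho_x [Finite K] [CharP K 2] {r : ℕ} (hr : r < 24) (t : K) :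
    rho ⟨good_D4.full.x r t, good_D4.x_mem_group _ _⟩ = yD K r t := by
  have e : good_D4.scθ K (chevD4.scGen K r t) =
      ⟨good_D4.full.x r t, good_D4.x_mem_group _ _⟩ :=
    Subtype.ext (Units.ext ((good_D4.coe_scθ hr t).trans (good_D4.full.coe_x' r t).symm))
  rw [← e, rho]
  simp only [MonoidHom.liftOfRightInverse_comp_apply]
  exact tableD4.hom_scGen (frame_plus 4) fits_D4 good_D4 chk_D4 hr t

end CfsgLib.D4Spec
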